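import Mathlib.GroupTheory.Transfer
import Mathlib.GroupTheory.SchurZassenhaus
import Mathlib.GroupTheory.Focal
import Mathlib.GroupTheory.Abelianization.Defs

/-!
# Transfer into abelian groups
-/

namespace Cfsg.Agent.Transfer

open scoped Pointwise

variable {G : Type*} [Group G]

/-- The transfer of a central element of `H`. -/
theorem transfer_eq_pow_of_mem_center {H : Subgroup G} [H.FiniteIndex] {A : Type*} [CommGroup A]
    (φ : H →* A) {z : H} (hz : (z : G) ∈ Subgroup.center G) :
    MonoidHom.transfer φ (z : G) = φ z ^ H.index := by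
  rw [MonoidHom.transfer_eq_pow φ (z : G) fun k g₀ _ => ?_, ← map_pow]
  · exact congrArg φ (Subtype.ext (by simp))
  · have h1 : g₀ * (z : G) ^ k = (z : G) ^ k * g₀ :=
      Subgroup.mem_center_iff.mp ((Subgroup.center G).pow_mem hz k) g₀
    rw [mul_assoc, ← h1, inv_mul_cancel_left]

/-- A central element of `H` lying in `G'` is killed by `φ`, up to the index of `H`. -/
theorem map_pow_index_eq_one {H : Subgroup G} [H.FiniteIndex] {A : Type*} [CommGroup A]
    (φ : H →* A) {z : H} (hz : (z : G) ∈ Subgroup.center G) (hc : (z : G) ∈ commutator G) :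
    φ z ^ H.index = 1 := by
  rw [← transfer_eq_pow_of_mem_center φ hz]
  exact Abelianization.commutator_subset_ker _ hc

/-- An abelian subgroup of index prime to its order meets `G' ∩ Z(G)` trivially. -/
theorem inf_commutator_inf_center_eq_bot [Finite G] {H : Subgroup G} (hc : IsMulCommutative H)
    (hHall : Nat.Coprime (Nat.card H) H.index) :
    H ⊓ commutator G ⊓ Subgroup.center G = ⊥ := by
  rw [Subgroup.eq_bot_iff_forall]
  rintro z ⟨⟨hzH, hzc⟩, hzZ⟩
  open scoped IsMulCommutative in
  have h := map_pow_index_eq_one (H := H) (MonoidHom.id H) (z := ⟨z, hzH⟩) hzZ hzc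
  have h1 : (⟨z, hzH⟩ : H) = 1 := (powCoprime hHall).injective (by
    rw [powCoprime_apply, powCoprime_apply, one_pow]; exact h)
  exact congrArg Subtype.val h1

open scoped IsMulCommutative in
/-- The transfer into an abelian normal subgroup has central values. -/
theorem transfer_mem_center {A : Subgroup G} [A.Normal] [A.FiniteIndex] [IsMulCommutative A]
    (x : G) : ((MonoidHom.transfer (MonoidHom.id A) x : A) : G) ∈ Subgroup.center G := by
  rw [Subgroup.mem_center_iff]
  intro g
  let T : A.LeftTransversal := default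
  have h1 := A.smul_diff_smul' T (x • T) (MulOpposite.op g)
  have hcomm : MulOpposite.op g • (x • T) = x • (MulOpposite.op g • T) :=
    Subtype.ext (smul_comm (MulOpposite.op g) x (T : Set G))
  rw [hcomm] at h1
  rw [← MonoidHom.transfer_def, ← MonoidHom.transfer_def] at h1
  have h2 := congrArg Subtype.val h1
  simp only [MulOpposite.unop_op] at h2
  conv_lhs => rw [h2]
  group

open scoped IsMulCommutative in
/-- For an abelian normal Hall subgroup `A`: `A = (focal A) · (Z(G) ∩ A)`. -/
theorem focalSubgroup_sup_center_eq [Finite G] {A : Subgroup G} [A.Normal] [IsMulCommutative A]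
    (hHall : Nat.Coprime (Nat.card A) A.index) :
    A.focalSubgroup ⊔ (Subgroup.center G ⊓ A) = A := by
  refine le_antisymm (sup_le A.focalSubgroup_le inf_le_right) fun a ha => ?_
  set τ := MonoidHom.transfer (MonoidHom.id A)
  set mk := QuotientGroup.mk' A.focalSubgroupOf
  have hnat : ∀ x : G, mk (τ x) = A.transferFocal x := by
    intro x
    let T : A.LeftTransversal := default
    rw [Subgroup.transferFocal, MonoidHom.transfer_def _ T, MonoidHom.transfer_def _ T]
    exact map_prod mk _ _
  obtain ⟨b, hb⟩ := (powCoprime hHall).surjective (⟨a, ha⟩ : A)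
  rw [powCoprime_apply] at hb
  have h2 : mk (τ (b : G)) = mk ⟨a, ha⟩ := by
    rw [hnat, A.transferFocal_eq_pow, ← hb, map_pow]
    rfl
  have h3 : ((τ (b : G) : A) : G)⁻¹ * a ∈ A.focalSubgroup := (QuotientGroup.eq (s := A.focalSubgroupOf) (a := τ (b : G)) (b := (⟨a, ha⟩ : A))).mp h2
  have h4 : a = (τ (b : G) : G) * ((τ (b : G) : G)⁻¹ * a) := by group
  rw [h4]
  exact mul_mem (Subgroup.mem_sup_right ⟨transfer_mem_center _, (τ (b : G)).2⟩)
    (Subgroup.mem_sup_left h3)

end Cfsg.Agent.Transfer
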