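import Mathlib.GroupTheory.Sylow
import Mathlib.GroupTheory.Complement
import Mathlib.GroupTheory.QuotientGroup.Basic
import Cfsg.Prelude.Def_Transfer

/-!
# `O^p(G)` (`Cfsg.pResidual`) and normal `p`-complements (`Cfsg.HasNormalPComplement`)
-/

namespace Cfsg.Agent.Transfer

open Cfsg

variable {p : ℕ} {G : Type*} [Group G]

/-- An element of order prime to `p` lies in `O^p(G)`. -/
theorem mem_pResidual_of_coprime {g : G} (h : Nat.Coprime (orderOf g) p) : g ∈ pResidual p G :=
  Subgroup.subset_closure h

theorem pResidual_le_iff {H : Subgroup G} :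
    pResidual p G ≤ H ↔ ∀ g : G, Nat.Coprime (orderOf g) p → g ∈ H :=
  Subgroup.closure_le H

theorem map_pResidual_le {K : Type*} [Group K] (f : G →* K) :
    (pResidual p G).map f ≤ pResidual p K := by
  rw [Subgroup.map_le_iff_le_comap, pResidual_le_iff]
  exact fun g hg => mem_pResidual_of_coprime (hg.coprime_dvd_left (orderOf_map_dvd f g))

theorem map_pResidual_equiv {K : Type*} [Group K] (e : G ≃* K) :
    (pResidual p G).map e.toMonoidHom = pResidual p K := by
  refine le_antisymm (map_pResidual_le _) ?_
  rw [pResidual_le_iff]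
  exact fun g hg => ⟨e.symm g, mem_pResidual_of_coprime (by rwa [MulEquiv.orderOf_eq]),
    e.apply_symm_apply g⟩

instance pResidual_characteristic : (pResidual p G).Characteristic :=
  Subgroup.characteristic_iff_map_le.mpr fun φ => map_pResidual_le φ.toMonoidHom

instance pResidual_normal : (pResidual p G).Normal :=
  Subgroup.normal_of_characteristic _

/-- A prime-to-`p` order element is trivial in a `p`-group. -/
theorem eq_one_of_coprime_orderOf {K : Type*} [Group K] (hK : IsPGroup p K) {x : K}
    (hx : Nat.Coprime (orderOf x) p) : x = 1 := by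
  obtain ⟨k, hk⟩ := hK x
  rw [← orderOf_eq_one_iff]
  exact (hx.pow_right k).eq_one_of_dvd (orderOf_dvd_of_pow_eq_one hk)

theorem eq_one_of_coprime_of_mem {P : Subgroup G} (hP : IsPGroup p P) {x : G} (hxP : x ∈ P)
    (hx : Nat.Coprime (orderOf x) p) : x = 1 := by
  have := eq_one_of_coprime_orderOf hP (x := ⟨x, hxP⟩) (by rwa [Subgroup.orderOf_mk])
  simpa using congrArg Subtype.val this

/-- `O^p(G)` is killed by every homomorphism into a `p`-group. -/
theorem pResidual_le_ker {K : Type*} [Group K] (f : G →* K) (hK : IsPGroup p K) :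
    pResidual p G ≤ f.ker :=
  pResidual_le_iff.mpr fun g hg =>
    eq_one_of_coprime_orderOf hK (hg.coprime_dvd_left (orderOf_map_dvd f g))

theorem pResidual_le_of_isPGroup_quotient {N : Subgroup G} [N.Normal]
    (h : IsPGroup p (G ⧸ N)) : pResidual p G ≤ N := by
  simpa using pResidual_le_ker (QuotientGroup.mk' N) h

/-- Only the elements of prime-to-`p` order are needed: if a normal `N` has `p`-power index,
it contains `O^p(G)`. -/
theorem pResidual_le_of_index [Fact p.Prime] [Finite G] {N : Subgroup G} [N.Normal] {n : ℕ}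
    (h : N.index = p ^ n) : pResidual p G ≤ N :=
  pResidual_le_of_isPGroup_quotient (IsPGroup.of_card (n := n) (by rw [← Subgroup.index_eq_card, h]))

/-- Quotient of `G` by a normal subgroup containing all prime-to-`p` order elements is a
`p`-group. -/
theorem isPGroup_quotient_of_pResidual_le [hp : Fact p.Prime] [Finite G] {N : Subgroup G}
    [N.Normal] (h : pResidual p G ≤ N) : IsPGroup p (G ⧸ N) := by
  intro x
  obtain ⟨g, rfl⟩ := QuotientGroup.mk'_surjective N x
  obtain ⟨k, m, hm, hkm⟩ :=
    Nat.exists_eq_pow_mul_and_not_dvd (orderOf_pos g).ne' p hp.out.ne_one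
  refine ⟨k, ?_⟩
  rw [← map_pow, ← MonoidHom.mem_ker, QuotientGroup.ker_mk']
  apply h
  apply mem_pResidual_of_coprime
  rw [orderOf_pow, hkm, Nat.gcd_eq_right (dvd_mul_right _ _),
    Nat.mul_div_cancel_left _ (pow_pos hp.out.pos k)]
  exact ((Nat.Prime.coprime_iff_not_dvd hp.out).mpr hm).symm

/-- `G / O^p(G)` is a `p`-group. -/
theorem isPGroup_quotient_pResidual [Fact p.Prime] [Finite G] :
    IsPGroup p (G ⧸ pResidual p G) :=
  isPGroup_quotient_of_pResidual_le le_rfl

theorem exists_index_pResidual [Fact p.Prime] [Finite G] :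
    ∃ n, (pResidual p G).index = p ^ n := by
  obtain ⟨n, hn⟩ := IsPGroup.iff_card.mp (isPGroup_quotient_pResidual (p := p) (G := G))
  exact ⟨n, (Subgroup.index_eq_card _).trans hn⟩

/-- `O^p` commutes with surjections. -/
theorem map_pResidual_of_surjective [Fact p.Prime] [Finite G] {K : Type*} [Group K] (f : G →* K)
    (hf : Function.Surjective f) : (pResidual p G).map f = pResidual p K := by
  have : Finite K := Finite.of_surjective f hf
  have : ((pResidual p G).map f).Normal := Subgroup.Normal.map inferInstance f hf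
  refine le_antisymm (map_pResidual_le f) (pResidual_le_of_isPGroup_quotient ?_)
  refine (isPGroup_quotient_pResidual (p := p) (G := G)).of_surjective
    (QuotientGroup.map (pResidual p G) ((pResidual p G).map f) f (Subgroup.le_comap_map f _)) ?_
  intro y
  obtain ⟨y, rfl⟩ := QuotientGroup.mk'_surjective _ y
  obtain ⟨x, rfl⟩ := hf y
  exact ⟨QuotientGroup.mk' _ x, rfl⟩

/-- `O^p(O^p(G)) = O^p(G)`, inside the subgroup. -/
theorem pResidual_pResidual : pResidual p ↥(pResidual p G) = ⊤ := by
  rw [eq_top_iff]
  calc (⊤ : Subgroup ↥(pResidual p G))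
      = Subgroup.closure (((↑) : ↥(pResidual p G) → G) ⁻¹' {g | Nat.Coprime (orderOf g) p}) :=
        (Subgroup.closure_closure_coe_preimage
          (k := {g : G | Nat.Coprime (orderOf g) p})).symm
    _ ≤ pResidual p ↥(pResidual p G) := by
        refine Subgroup.closure_mono fun x hx => ?_
        show Nat.Coprime (orderOf x) p
        rw [← Subgroup.orderOf_coe]
        exact hx

/-- Characterisation of being `p`-perfect: every hom to a `p`-group is trivial. -/
theorem eq_one_of_pResidual_eq_top (h : pResidual p G = ⊤) {K : Type*} [Group K] (f : G →* K)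
    (hK : IsPGroup p K) (g : G) : f g = 1 :=
  pResidual_le_ker f hK (h ▸ Subgroup.mem_top g)

/-- A subgroup with index prime to `p` together with a normal subgroup of `p`-power index
generate the group. -/
theorem sup_eq_top_of_coprime_index {H N : Subgroup G} {n : ℕ} [hp : Fact p.Prime]
    (hH : ¬ p ∣ H.index) (hN : N.index = p ^ n) : H ⊔ N = ⊤ := by
  rw [← Subgroup.index_eq_one]
  have h1 : (H ⊔ N).index ∣ H.index := Subgroup.index_dvd_of_le le_sup_left
  have h2 : (H ⊔ N).index ∣ p ^ n := hN ▸ Subgroup.index_dvd_of_le le_sup_right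
  obtain ⟨k, -, hk⟩ := (Nat.dvd_prime_pow hp.out).mp h2
  rcases k with _ | k
  · simpa using hk
  · exact absurd (((dvd_pow_self p (Nat.succ_ne_zero k)).trans hk.symm.dvd).trans h1) hH

/-- A subgroup of index prime to `p` covers `G / O^p(G)`. -/
theorem sup_pResidual_eq_top [Fact p.Prime] [Finite G] {H : Subgroup G} (hH : ¬ p ∣ H.index) :
    H ⊔ pResidual p G = ⊤ := by
  obtain ⟨n, hn⟩ := exists_index_pResidual (p := p) (G := G)
  exact sup_eq_top_of_coprime_index hH hn

theorem sylow_sup_pResidual_eq_top [Fact p.Prime] [Finite G] (P : Sylow p G) :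
    (P : Subgroup G) ⊔ pResidual p G = ⊤ :=
  sup_pResidual_eq_top P.not_dvd_index

/-- If `N` is a normal complement of a Sylow `p`-subgroup then it is `O^p(G)`. -/
theorem eq_pResidual_of_isComplement' [hp : Fact p.Prime] [Finite G] (P : Sylow p G)
    {N : Subgroup G} [N.Normal] (h : N.IsComplement' (P : Subgroup G)) :
    N = pResidual p G := by
  obtain ⟨n, hn⟩ := IsPGroup.iff_card.mp P.2
  refine le_antisymm (fun x hx => mem_pResidual_of_coprime ?_)
    (pResidual_le_of_index (n := n) (h.symm.index_eq_card.trans hn))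
  refine Nat.Coprime.coprime_dvd_left (Subgroup.orderOf_dvd_natCard N hx) ?_
  rw [← h.index_eq_card]
  exact ((Nat.Prime.coprime_iff_not_dvd hp.out).mpr P.not_dvd_index).symm

/-- A normal complement of one Sylow `p`-subgroup complements all of them. -/
theorem isComplement'_of_not_dvd_card [hp : Fact p.Prime] [Finite G] {N : Subgroup G} [N.Normal]
    (hN : ¬ p ∣ Nat.card N) (hq : IsPGroup p (G ⧸ N)) (P : Sylow p G) :
    N.IsComplement' (P : Subgroup G) := by
  obtain ⟨n, hn⟩ := IsPGroup.iff_card.mp hq
  rw [← Subgroup.index_eq_card] at hn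
  refine Subgroup.isComplement'_of_disjoint_and_mul_eq_univ ?_ ?_
  · rw [disjoint_iff, Subgroup.eq_bot_iff_forall]
    rintro x ⟨hxN, hxP⟩
    refine eq_one_of_coprime_of_mem P.2 hxP ?_
    exact ((Nat.Prime.coprime_iff_not_dvd hp.out).mpr hN).symm.coprime_dvd_left
      (Subgroup.orderOf_dvd_natCard N hxN)
  · rw [← Subgroup.normal_mul, sup_comm, sup_eq_top_of_coprime_index P.not_dvd_index hn,
      Subgroup.coe_top]

theorem hasNormalPComplement_of_not_dvd_card [Fact p.Prime] [Finite G] {N : Subgroup G} [N.Normal]
    (hN : ¬ p ∣ Nat.card N) (hq : IsPGroup p (G ⧸ N)) : HasNormalPComplement p G :=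
  ⟨default, N, inferInstance, isComplement'_of_not_dvd_card hN hq default⟩

/-- `G` has a normal `p`-complement iff `O^p(G)` has order prime to `p`. -/
theorem hasNormalPComplement_iff_not_dvd [hp : Fact p.Prime] [Finite G] :
    HasNormalPComplement p G ↔ ¬ p ∣ Nat.card (pResidual p G) := by
  refine ⟨?_, fun h => hasNormalPComplement_of_not_dvd_card h isPGroup_quotient_pResidual⟩
  rintro ⟨P, N, hN, h⟩
  rw [← eq_pResidual_of_isComplement' P h, ← h.index_eq_card]
  exact P.not_dvd_index

theorem isComplement'_pResidual [Fact p.Prime] [Finite G] (h : HasNormalPComplement p G)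
    (P : Sylow p G) : (pResidual p G).IsComplement' (P : Subgroup G) :=
  isComplement'_of_not_dvd_card (hasNormalPComplement_iff_not_dvd.mp h)
    isPGroup_quotient_pResidual P

theorem hasNormalPComplement_iff_exists [Fact p.Prime] [Finite G] (P : Sylow p G) :
    HasNormalPComplement p G ↔
      ∃ N : Subgroup G, N.Normal ∧ N.IsComplement' (P : Subgroup G) :=
  ⟨fun h => ⟨_, inferInstance, isComplement'_pResidual h P⟩, fun ⟨N, hN, h⟩ => ⟨P, N, hN, h⟩⟩

/-- `G` has a normal `p`-complement iff a given Sylow `p`-subgroup meets `O^p(G)` trivially. -/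
theorem hasNormalPComplement_iff_inf_eq_bot [hp : Fact p.Prime] [Finite G] (P : Sylow p G) :
    HasNormalPComplement p G ↔ (P : Subgroup G) ⊓ pResidual p G = ⊥ := by
  refine ⟨fun h => disjoint_iff.mp (isComplement'_pResidual h P).disjoint.symm, fun h => ?_⟩
  refine ⟨P, _, inferInstance, Subgroup.isComplement'_of_disjoint_and_mul_eq_univ
    (disjoint_iff.mpr (inf_comm (pResidual p G) _ ▸ h)) ?_⟩
  rw [← Subgroup.normal_mul, sup_comm, sylow_sup_pResidual_eq_top, Subgroup.coe_top]

/-- With a normal `p`-complement, `O^p(G)` is the set of elements of order prime to `p`. -/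
theorem mem_pResidual_iff_coprime [hp : Fact p.Prime] [Finite G] (h : HasNormalPComplement p G)
    {g : G} : g ∈ pResidual p G ↔ Nat.Coprime (orderOf g) p :=
  ⟨fun hg => (((Nat.Prime.coprime_iff_not_dvd hp.out).mpr
      (hasNormalPComplement_iff_not_dvd.mp h)).symm).coprime_dvd_left
      (Subgroup.orderOf_dvd_natCard _ hg),
    mem_pResidual_of_coprime⟩

theorem hasNormalPComplement_of_injective [Fact p.Prime] [Finite G] (h : HasNormalPComplement p G)
    {K : Type*} [Group K] (f : K →* G) (hf : Function.Injective f) :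
    HasNormalPComplement p K := by
  have : Finite K := Finite.of_injective f hf
  rw [hasNormalPComplement_iff_not_dvd] at h ⊢
  intro hd
  apply h
  calc p ∣ Nat.card (pResidual p K) := hd
    _ = Nat.card ((pResidual p K).map f) :=
        Nat.card_congr ((pResidual p K).equivMapOfInjective f hf).toEquiv
    _ ∣ Nat.card (pResidual p G) := Subgroup.card_dvd_of_le (map_pResidual_le f)

theorem hasNormalPComplement_subgroup [Fact p.Prime] [Finite G] (h : HasNormalPComplement p G)
    (H : Subgroup G) : HasNormalPComplement p H :=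
  hasNormalPComplement_of_injective h H.subtype H.subtype_injective

theorem hasNormalPComplement_mono [Fact p.Prime] [Finite G] {H K : Subgroup G} (hle : H ≤ K)
    (h : HasNormalPComplement p K) : HasNormalPComplement p H :=
  hasNormalPComplement_of_injective h _ (Subgroup.inclusion_injective hle)

theorem hasNormalPComplement_of_surjective [Fact p.Prime] [Finite G] (h : HasNormalPComplement p G)
    {K : Type*} [Group K] (f : G →* K) (hf : Function.Surjective f) :
    HasNormalPComplement p K := by
  have : Finite K := Finite.of_surjective f hf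
  rw [hasNormalPComplement_iff_not_dvd] at h ⊢
  rw [← map_pResidual_of_surjective f hf]
  exact fun hd => h (hd.trans (Subgroup.card_map_dvd _ f))

theorem hasNormalPComplement_congr [Fact p.Prime] [Finite G] {K : Type*} [Group K] (e : G ≃* K) :
    HasNormalPComplement p G ↔ HasNormalPComplement p K := by
  have : Finite K := Finite.of_equiv G e.toEquiv
  exact ⟨fun h => hasNormalPComplement_of_injective h e.symm.toMonoidHom e.symm.injective,
    fun h => hasNormalPComplement_of_injective h e.toMonoidHom e.injective⟩

theorem hasNormalPComplement_of_isPGroup [hp : Fact p.Prime] [Finite G] (h : IsPGroup p G) :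
    HasNormalPComplement p G := by
  rw [hasNormalPComplement_iff_not_dvd]
  have hle := pResidual_le_ker (MonoidHom.id G) h
  rw [MonoidHom.ker_id, le_bot_iff] at hle
  rw [hle, Subgroup.card_bot]
  exact hp.out.not_dvd_one

theorem hasNormalPComplement_of_not_dvd [Fact p.Prime] [Finite G] (h : ¬ p ∣ Nat.card G) :
    HasNormalPComplement p G :=
  hasNormalPComplement_iff_not_dvd.mpr fun hd => h (hd.trans (Subgroup.card_subgroup_dvd_card _))

end Cfsg.Agent.Transfer
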