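import Mathlib.GroupTheory.Focal
import Mathlib.GroupTheory.Nilpotent
import Cfsg.Agent.Lib.Transfer.Residual

/-!
# Focal subgroups, control of fusion and normal `p`-complements
-/

namespace Cfsg.Agent.Transfer

open Cfsg
open scoped commutatorElement

variable {p : ℕ} {G : Type*} [Group G]

/-- In a nilpotent subgroup `S`, `X ≤ ⁅X, S⁆` forces `X = ⊥`. -/
theorem eq_bot_of_le_commutator {S X : Subgroup G} [hS : Group.IsNilpotent S] (hXS : X ≤ S)
    (h : X ≤ ⁅X, S⁆) : X = ⊥ := by
  obtain ⟨n, hn⟩ := (Subgroup.isNilpotent_iff_lowerCentralSeries S).mp hS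
  suffices ∀ m, X ≤ S.lowerCentralSeries m from le_bot_iff.mp (hn ▸ this n)
  intro m
  induction m with
  | zero => exact hXS
  | succ m ih => exact h.trans (Subgroup.commutator_mono ih le_rfl)

theorem eq_bot_of_le_commutator_top [hG : Group.IsNilpotent G] {X : Subgroup G}
    (h : X ≤ ⁅X, (⊤ : Subgroup G)⁆) : X = ⊥ := by
  have : Group.IsNilpotent (⊤ : Subgroup G) := Group.isNilpotent_top.mpr hG
  exact eq_bot_of_le_commutator le_top h

/-- If conjugation inside `H` is controlled by `K`, then the focal subgroup of `H` is in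
`⁅H, K⁆`. -/
theorem focalSubgroup_le_of_control {H K : Subgroup G}
    (h : ∀ x ∈ H, ∀ y ∈ H, (∃ g : G, g * x * g⁻¹ = y) → ∃ k ∈ K, k * x * k⁻¹ = y) :
    H.focalSubgroup ≤ ⁅H, K⁆ := by
  rw [Subgroup.focalSubgroup_def, Subgroup.closure_le]
  rintro g ⟨hg, x, hx, u, rfl⟩
  have hy : u * x * u⁻¹ ∈ H := by
    have h1 := H.inv_mem (H.mul_mem (H.inv_mem hx) hg)
    simpa [commutatorElement_def, mul_assoc] using h1
  obtain ⟨k, hk, hk'⟩ := h x hx _ hy ⟨u, rfl⟩
  have h2 : ⁅x, u⁆ = x * (u * x * u⁻¹)⁻¹ := by group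
  rw [SetLike.mem_coe, h2, ← hk', show x * (k * x * k⁻¹)⁻¹ = ⁅x, k⁆ by group]
  exact Subgroup.commutator_mem_commutator hx hk

/-- `⁅H, K⁆` lies in the focal subgroup of `H` whenever `K` normalizes `H`. -/
theorem commutator_le_focalSubgroup_of_normalizer {H K : Subgroup G}
    (hK : K ≤ Subgroup.normalizer (H : Set G)) : ⁅H, K⁆ ≤ H.focalSubgroup := by
  rw [Subgroup.commutator_le]
  intro x hx k hk
  refine Subgroup.subset_closure ⟨?_, x, hx, k, rfl⟩
  rw [commutatorElement_def]
  simpa [mul_assoc] using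
    H.mul_mem hx (((Subgroup.mem_normalizer_iff.mp (hK hk)) x⁻¹).mp (H.inv_mem hx))

variable [Fact p.Prime] [Finite G] (P : Sylow p G)

/-- `P ∩ O^p(G)` is contained in the focal subgroup. -/
theorem sylow_inf_pResidual_le_focalSubgroup :
    (P : Subgroup G) ⊓ pResidual p G ≤ (P : Subgroup G).focalSubgroup := by
  rw [← Subgroup.ker_transferFocal_inf_eq_focalSubgroup P, inf_comm]
  exact inf_le_inf_right _ (pResidual_le_ker _ (P.2.to_quotient _))

theorem sylow_inf_pResidual_le_commutator :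
    (P : Subgroup G) ⊓ pResidual p G ≤ commutator G ⊓ (P : Subgroup G) :=
  (sylow_inf_pResidual_le_focalSubgroup P).trans
    (Subgroup.commutator_inf_eq_focalSubgroup P).ge

/-- If the group has no nontrivial `p`-quotient, a Sylow `p`-subgroup is its own focal
subgroup. -/
theorem sylow_le_focalSubgroup_of_pResidual_eq_top (h : pResidual p G = ⊤) :
    (P : Subgroup G) ≤ (P : Subgroup G).focalSubgroup := by
  simpa [h] using sylow_inf_pResidual_le_focalSubgroup P

/-- For an abelian Sylow `p`-subgroup, `G/O^p(G)` is abelian. -/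
theorem commutator_le_pResidual_of_abelian (hP : IsMulCommutative P) :
    commutator G ≤ pResidual p G := by
  rw [← Subgroup.Normal.quotient_commutative_iff_commutator_le]
  have key : ∀ a : G ⧸ pResidual p G, ∃ x : P, QuotientGroup.mk' _ (x : G) = a := by
    intro a
    obtain ⟨g, rfl⟩ := QuotientGroup.mk'_surjective _ a
    obtain ⟨x, hx, y, hy, rfl⟩ := (Subgroup.mem_sup_of_normal_right.mp
      ((sylow_sup_pResidual_eq_top P).ge (Subgroup.mem_top g)))
    refine ⟨⟨x, hx⟩, ?_⟩
    rw [map_mul]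
    simpa using hy
  refine ⟨⟨fun a b => ?_⟩⟩
  obtain ⟨x, rfl⟩ := key a
  obtain ⟨y, rfl⟩ := key b
  rw [← map_mul, ← map_mul]
  have := hP.is_comm.comm x y
  exact congrArg (fun z : P => QuotientGroup.mk' (pResidual p G) (z : G)) this

theorem sylow_inf_pResidual_eq_focalSubgroup_of_abelian (hP : IsMulCommutative P) :
    (P : Subgroup G) ⊓ pResidual p G = (P : Subgroup G).focalSubgroup := by
  refine le_antisymm (sylow_inf_pResidual_le_focalSubgroup P)
    (le_inf (Subgroup.focalSubgroup_le _) ?_)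
  exact (Subgroup.focalSubgroup_le_commutator _).trans (commutator_le_pResidual_of_abelian P hP)

/-- A Sylow `p`-subgroup of a normal subgroup. -/
theorem exists_sylow_subgroupOf_normal (N : Subgroup G) [N.Normal] :
    ∃ Q : Sylow p N, (Q : Subgroup N) = (P : Subgroup G).subgroupOf N := by
  have hp : IsPGroup p ((P : Subgroup G).subgroupOf N) := P.2.comap_subtype
  refine ⟨hp.toSylow ?_, rfl⟩
  intro hd
  refine P.not_dvd_index (hd.trans ?_)
  refine Dvd.dvd.trans (dvd_of_eq ?_)
    (Subgroup.relIndex_dvd_index_of_le (le_sup_left : (P : Subgroup G) ≤ (P : Subgroup G) ⊔ N))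
  show (P : Subgroup G).relIndex N = _
  have h1 := Subgroup.relIndex_mul_relIndex ((P : Subgroup G) ⊓ N) (P : Subgroup G)
    ((P : Subgroup G) ⊔ N) inf_le_left le_sup_left
  have h2 := Subgroup.relIndex_mul_relIndex ((P : Subgroup G) ⊓ N) N ((P : Subgroup G) ⊔ N)
    inf_le_right le_sup_right
  rw [Subgroup.inf_relIndex_left] at h1
  rw [Subgroup.inf_relIndex_right, Subgroup.relIndex_sup_right, ← h1, mul_comm] at h2
  have h0 : N.relIndex (P : Subgroup G) ≠ 0 := Subgroup.index_ne_zero_of_finite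
  exact Nat.eq_of_mul_eq_mul_left (Nat.pos_of_ne_zero h0) h2

/-- If a Sylow `p`-subgroup controls its own fusion, there is a normal `p`-complement. -/
theorem hasNormalPComplement_of_control
    (h : ∀ x ∈ (P : Subgroup G), ∀ y ∈ (P : Subgroup G), (∃ g : G, g * x * g⁻¹ = y) →
      ∃ z ∈ (P : Subgroup G), z * x * z⁻¹ = y) :
    HasNormalPComplement p G := by
  rw [hasNormalPComplement_iff_inf_eq_bot P]
  obtain ⟨Q, hQ⟩ := exists_sylow_subgroupOf_normal P (pResidual p G)
  have hQmap : (Q : Subgroup ↥(pResidual p G)).map (pResidual p G).subtype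
      = (P : Subgroup G) ⊓ pResidual p G := by
    rw [hQ, Subgroup.subgroupOf_map_subtype]
  have : Group.IsNilpotent (P : Subgroup G) := P.2.isNilpotent
  refine eq_bot_of_le_commutator (S := (P : Subgroup G)) inf_le_left ?_
  have hfoc := Subgroup.map_mono (f := (pResidual p G).subtype)
    (sylow_le_focalSubgroup_of_pResidual_eq_top Q pResidual_pResidual)
  rw [hQmap] at hfoc
  refine hfoc.trans ?_
  rw [Subgroup.focalSubgroup_def, MonoidHom.map_closure, Subgroup.closure_le]
  rintro _ ⟨g, ⟨hg, x, hx, u, rfl⟩, rfl⟩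
  rw [hQ, Subgroup.mem_subgroupOf] at hx hg
  have hy : (u : G) * x * (u : G)⁻¹ ∈ (P : Subgroup G) := by
    simpa [commutatorElement_def, mul_assoc] using
      (P : Subgroup G).inv_mem ((P : Subgroup G).mul_mem ((P : Subgroup G).inv_mem hx) hg)
  obtain ⟨z, hz, hz'⟩ := h _ hx _ hy ⟨u, rfl⟩
  have hcomm : (pResidual p G).subtype ⁅x, u⁆ = ⁅(x : G), z⁆ := by
    rw [commutatorElement_def, commutatorElement_def]
    simp only [map_mul, map_inv, Subgroup.subtype_apply]
    have h2 : z * (x : G)⁻¹ * z⁻¹ = (u : G) * (x : G)⁻¹ * (u : G)⁻¹ := by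
      have h3 := congrArg (·⁻¹) hz'
      simpa [mul_assoc] using h3
    calc (x : G) * u * (x : G)⁻¹ * (u : G)⁻¹ = x * ((u : G) * (x : G)⁻¹ * (u : G)⁻¹) := by group
      _ = x * (z * (x : G)⁻¹ * z⁻¹) := by rw [h2]
      _ = _ := by group
  rw [SetLike.mem_coe, hcomm]
  exact Subgroup.commutator_mem_commutator ⟨hx, x.2⟩ hz

/-- Conjugation of two elements of `P` is controlled by the normaliser of a weakly closed
central subgroup of `P` (Grün). -/
theorem conj_normalizer_of_weaklyClosed {Z : Subgroup G}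
    (hZ : Z ≤ Subgroup.centralizer ((P : Subgroup G) : Set G))
    (hW : IsWeaklyClosed Z (P : Subgroup G)) {x g : G} (hx : x ∈ (P : Subgroup G))
    (hy : g * x * g⁻¹ ∈ (P : Subgroup G)) :
    ∃ n ∈ Subgroup.normalizer (Z : Set G), n * x * n⁻¹ = g * x * g⁻¹ := by
  classical
  set y := g * x * g⁻¹ with hy_def
  set C : Subgroup G := Subgroup.centralizer {y}
  have h1 : Z ≤ C := by
    intro z hz
    rw [Subgroup.mem_centralizer_singleton_iff]
    exact ((Subgroup.mem_centralizer_iff.mp (hZ hz)) y hy).symm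
  have h2 : Z.map (MulAut.conj g).toMonoidHom ≤ C := by
    rintro _ ⟨z, hz, rfl⟩
    rw [Subgroup.mem_centralizer_singleton_iff]
    have hc := (Subgroup.mem_centralizer_iff.mp (hZ hz)) x hx
    simp only [MulEquiv.coe_toMonoidHom, MulAut.conj_apply, hy_def]
    calc g * z * g⁻¹ * (g * x * g⁻¹) = g * (z * x) * g⁻¹ := by group
      _ = g * (x * z) * g⁻¹ := by rw [hc]
      _ = g * x * g⁻¹ * (g * z * g⁻¹) := by group
  have hpZ : IsPGroup p Z := P.2.to_le hW.1
  obtain ⟨S, hS⟩ := IsPGroup.exists_le_sylow (hpZ.comap_subtype (K := C))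
  obtain ⟨S', hS'⟩ := IsPGroup.exists_le_sylow
    ((hpZ.map (MulAut.conj g).toMonoidHom).comap_subtype (K := C))
  obtain ⟨c, rfl⟩ := MulAction.exists_smul_eq C S' S
  obtain ⟨R, hR⟩ := IsPGroup.exists_le_sylow ((c • S' : Sylow p C).2.map C.subtype)
  obtain ⟨r, hr⟩ := MulAction.exists_smul_eq G R P
  have hRP : ∀ t ∈ (R : Subgroup G), r * t * r⁻¹ ∈ (P : Subgroup G) := by
    intro t ht
    rw [← hr, Sylow.smul_def]
    exact Subgroup.smul_mem_pointwise_smul t (MulAut.conj r) _ ht
  have hZR : ∀ z ∈ Z, z ∈ (R : Subgroup G) := by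
    intro z hz
    exact hR ⟨⟨z, h1 hz⟩, hS hz, rfl⟩
  have hgZR : ∀ z ∈ Z, (c : G) * (g * z * g⁻¹) * (c : G)⁻¹ ∈ (R : Subgroup G) := by
    intro z hz
    refine hR ⟨c * ⟨g * z * g⁻¹, h2 ⟨z, hz, rfl⟩⟩ * c⁻¹, ?_, rfl⟩
    rw [Sylow.smul_def]
    exact Subgroup.smul_mem_pointwise_smul _ (MulAut.conj c) _ (hS' ⟨z, hz, rfl⟩)
  have hn1 : r ∈ Subgroup.normalizer (Z : Set G) := by
    rw [Subgroup.mem_normalizer_iff_map_conj_eq]
    refine hW.2 r ?_
    rintro _ ⟨z, hz, rfl⟩
    exact hRP z (hZR z hz)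
  have hn2 : r * (c : G) * g ∈ Subgroup.normalizer (Z : Set G) := by
    rw [Subgroup.mem_normalizer_iff_map_conj_eq]
    refine hW.2 (r * c * g) ?_
    rintro _ ⟨z, hz, rfl⟩
    have := hRP _ (hgZR z hz)
    simpa [mul_assoc] using this
  refine ⟨(c : G) * g, ?_, ?_⟩
  · simpa [mul_assoc] using mul_mem (inv_mem hn1) hn2
  · have hc : (c : G) * y = y * c := (Subgroup.mem_centralizer_singleton_iff.mp c.2)
    calc (c : G) * g * x * ((c : G) * g)⁻¹ = (c : G) * y * (c : G)⁻¹ := by rw [hy_def]; group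
      _ = y := by rw [hc]; group

/-- Grün: `P ∩ G' = P ∩ N_G(Z)'` for `Z` central and weakly closed. -/
theorem commutator_inf_eq_of_weaklyClosed {Z : Subgroup G}
    (hZ : Z ≤ Subgroup.centralizer ((P : Subgroup G) : Set G))
    (hW : IsWeaklyClosed Z (P : Subgroup G)) :
    commutator G ⊓ (P : Subgroup G) =
      ⁅Subgroup.normalizer (Z : Set G), Subgroup.normalizer (Z : Set G)⁆ ⊓ (P : Subgroup G) := by
  refine le_antisymm (le_inf ?_ inf_le_right) (inf_le_inf_right _ ?_)
  · rw [Subgroup.commutator_inf_eq_focalSubgroup P]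
    refine (focalSubgroup_le_of_control (K := Subgroup.normalizer (Z : Set G)) ?_).trans
      (Subgroup.commutator_mono ?_ le_rfl)
    · rintro x hx y hy ⟨g, rfl⟩
      exact conj_normalizer_of_weaklyClosed P hZ hW hx hy
    · exact (Subgroup.le_centralizer_iff.mp hZ).trans (Subgroup.centralizer_le_normalizer _)
  · exact Subgroup.commutator_mono le_top le_top

/-- Fusion in an abelian Sylow subgroup is controlled by its normaliser. -/
theorem conj_normalizer_of_abelian (hP : IsMulCommutative P) {x g : G}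
    (hx : x ∈ (P : Subgroup G)) (hy : g * x * g⁻¹ ∈ (P : Subgroup G)) :
    ∃ n ∈ Subgroup.normalizer ((P : Subgroup G) : Set G), n * x * n⁻¹ = g * x * g⁻¹ := by
  obtain ⟨n, hn, h⟩ := P.conj_eq_normalizer_conj_of_mem x g⁻¹ hx (by rw [inv_inv]; exact hy)
  exact ⟨n⁻¹, inv_mem hn, by simpa [inv_inv] using h.symm⟩

/-- For an abelian Sylow subgroup the focal subgroup is `⁅P, N_G(P)⁆`. -/
theorem focalSubgroup_eq_commutator_normalizer_of_abelian (hP : IsMulCommutative P) :
    (P : Subgroup G).focalSubgroup =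
      ⁅(P : Subgroup G), Subgroup.normalizer ((P : Subgroup G) : Set G)⁆ :=
  le_antisymm
    (focalSubgroup_le_of_control fun _ hx _ hy ⟨_, hg⟩ => by
      subst hg; exact conj_normalizer_of_abelian P hP hx hy)
    (commutator_le_focalSubgroup_of_normalizer le_rfl)

end Cfsg.Agent.Transfer
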