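import Mathlib.GroupTheory.Transfer
import Cfsg.Agent.Lib.Transfer.Focal

/-!
# Frobenius' normal `p`-complement theorem, and `p'`-actions on small `p`-groups
-/

namespace Cfsg.Agent.Transfer

open Cfsg
open scoped commutatorElement Pointwise

variable {p : ℕ} {G : Type*} [Group G]

/-- A group generated by its `p'`-elements together with a subgroup containing them. -/
theorem sylow_sup_eq_top_of_coprime_mem [Fact p.Prime] [Finite G] (P : Sylow p G) {C : Subgroup G}
    (h : ∀ g : G, Nat.Coprime (orderOf g) p → g ∈ C) : (P : Subgroup G) ⊔ C = ⊤ :=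
  top_le_iff.mp ((sylow_sup_pResidual_eq_top P).ge.trans (sup_le_sup_left (pResidual_le_iff.mpr h) _))

/-- A finite group is generated by its elements of prime power order. -/
theorem eq_top_of_prime_pow_orderOf_mem [Finite G] {C : Subgroup G}
    (h : ∀ q : ℕ, q.Prime → ∀ g : G, (∃ k, orderOf g = q ^ k) → g ∈ C) : C = ⊤ := by
  refine Subgroup.eq_top_of_card_eq C (Nat.dvd_antisymm (Subgroup.card_subgroup_dvd_card C) ?_)
  rw [Nat.dvd_iff_prime_pow_dvd_dvd]
  intro q k hq hk
  have := Fact.mk hq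
  obtain ⟨Q, hQ⟩ := Sylow.exists_subgroup_card_pow_prime q hk
  refine hQ ▸ Subgroup.card_dvd_of_le fun x hx => h q hq x ?_
  obtain ⟨j, -, hj⟩ := (Nat.dvd_prime_pow hq).mp
    (hQ ▸ Subgroup.orderOf_dvd_natCard Q hx)
  exact ⟨j, hj⟩

/-- Key step of Frobenius' theorem: any two Sylow subgroups are conjugate by an element
centralizing their intersection. -/
theorem exists_centralizer_smul_eq [Fact p.Prime] [Finite G]
    (h : ∀ D : Subgroup G, IsPGroup p D → D ≠ ⊥ → ∀ g ∈ Subgroup.normalizer (D : Set G),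
      Nat.Coprime (orderOf g) p → g ∈ Subgroup.centralizer (D : Set G)) (P S : Sylow p G) :
    ∃ c ∈ Subgroup.centralizer (((P : Subgroup G) ⊓ (S : Subgroup G) : Subgroup G) : Set G),
      c • S = P := by
  suffices ∀ n : ℕ, ∀ P S : Sylow p G,
      Nat.card G - Nat.card ((P : Subgroup G) ⊓ (S : Subgroup G) : Subgroup G) ≤ n →
      ∃ c ∈ Subgroup.centralizer (((P : Subgroup G) ⊓ (S : Subgroup G) : Subgroup G) : Set G),
        c • S = P from this _ P S le_rfl
  intro n
  induction n using Nat.strong_induction_on with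
  | _ n ih =>
    intro P S hn
    generalize hD : ((P : Subgroup G) ⊓ (S : Subgroup G) : Subgroup G) = D at hn ⊢
    by_cases hPS : P = S
    · exact ⟨1, one_mem _, by rw [one_smul, hPS]⟩
    by_cases hD0 : D = ⊥
    · obtain ⟨c, hc⟩ := MulAction.exists_smul_eq G S P
      refine ⟨c, ?_, hc⟩
      rw [hD0, Subgroup.mem_centralizer_iff]
      intro x hx
      rw [SetLike.mem_coe, Subgroup.mem_bot] at hx
      simp [hx]
    have hDP : D ≤ (P : Subgroup G) := hD ▸ inf_le_left
    have hDS : D ≤ (S : Subgroup G) := hD ▸ inf_le_right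
    set N := Subgroup.normalizer (D : Set G) with hN
    have hgrow : ∀ T : Sylow p G, D ≤ (T : Subgroup G) → D ≠ (T : Subgroup G) →
        D < (T : Subgroup G) ⊓ N := by
      intro T hDT hne
      have : Group.IsNilpotent (T : Subgroup G) := T.2.isNilpotent
      have hlt : D.subgroupOf (T : Subgroup G) < ⊤ := by
        refine lt_top_iff_ne_top.mpr fun he => hne (le_antisymm hDT ?_)
        exact Subgroup.subgroupOf_eq_top.mp he
      obtain ⟨x, hx, hxD⟩ := SetLike.exists_of_lt
        (Group.normalizerCondition_of_isNilpotent _ hlt)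
      refine lt_of_le_of_ne (le_inf hDT Subgroup.le_normalizer) fun he => hxD ?_
      rw [Subgroup.mem_subgroupOf, he]
      refine ⟨x.2, ?_⟩
      rw [← Subgroup.subgroupOf_normalizer_eq hDT] at hx
      exact hx
    have hneP : D ≠ (P : Subgroup G) := by
      intro he
      refine hPS (Sylow.ext ?_).symm
      exact P.is_maximal' S.2 (he ▸ hDS)
    have hneS : D ≠ (S : Subgroup G) := by
      intro he
      exact hPS (Sylow.ext (S.is_maximal' P.2 (he ▸ hDP)))
    obtain ⟨P1, hP1⟩ := IsPGroup.exists_le_sylow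
      (((P.2.to_inf_left (K := N)) : IsPGroup p ((P : Subgroup G) ⊓ N : Subgroup G)).comap_subtype
        (K := N))
    obtain ⟨S1, hS1⟩ := IsPGroup.exists_le_sylow
      (((S.2.to_inf_left (K := N)) : IsPGroup p ((S : Subgroup G) ⊓ N : Subgroup G)).comap_subtype
        (K := N))
    obtain ⟨m, hm⟩ := MulAction.exists_smul_eq N S1 P1
    -- split `m = a * c` with `a ∈ P1` and `c` centralizing `D`
    have hcov : (P1 : Subgroup N) ⊔ (Subgroup.centralizer (D : Set G)).subgroupOf N = ⊤ := by
      refine sylow_sup_eq_top_of_coprime_mem P1 fun g hg => ?_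
      exact h D (P.2.to_le hDP) hD0 g g.2 (by rwa [Subgroup.orderOf_coe])
    have : ((Subgroup.centralizer (D : Set G)).subgroupOf N).Normal :=
      Subgroup.normal_subgroupOf_centralizer_normalizer _
    obtain ⟨a, ha, c, hc, hac⟩ := Subgroup.mem_sup_of_normal_right.mp
      (hcov.ge (Subgroup.mem_top m))
    rw [Subgroup.mem_subgroupOf] at hc
    have hcS1 : c • S1 = P1 := by
      rw [← hac, mul_smul, smul_eq_iff_eq_inv_smul] at hm
      rw [hm]
      exact Sylow.smul_eq_iff_mem_normalizer.mpr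
        (inv_mem (Subgroup.le_normalizer ha))
    obtain ⟨R, hR⟩ := IsPGroup.exists_le_sylow ((P1.2).map N.subtype)
    have hcard : ∀ T U : Sylow p G, D < (T : Subgroup G) ⊓ (U : Subgroup G) →
        Nat.card G - Nat.card ((T : Subgroup G) ⊓ (U : Subgroup G) : Subgroup G) < n := by
      intro T U hlt
      have h1 := Set.ncard_lt_ncard (s := (D : Set G)) hlt (Set.toFinite _)
      rw [← Nat.card_coe_set_eq, ← Nat.card_coe_set_eq] at h1
      have h2 := Subgroup.card_le_card_group ((T : Subgroup G) ⊓ (U : Subgroup G) : Subgroup G)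
      have h3 : Nat.card D < Nat.card ((T : Subgroup G) ⊓ (U : Subgroup G) : Subgroup G) := h1
      omega
    have hPR : D < (P : Subgroup G) ⊓ (R : Subgroup G) := by
      refine (hgrow P hDP hneP).trans_le (le_inf inf_le_left fun x hx => hR ?_)
      exact ⟨⟨x, hx.2⟩, hP1 hx, rfl⟩
    have hDc : ∀ x ∈ D, (c : G) * x * (c : G)⁻¹ = x := by
      intro x hx
      rw [← Subgroup.mem_centralizer_iff.mp hc x hx, mul_inv_cancel_right]
    have hRS : D < (R : Subgroup G) ⊓ ((c : G) • S : Sylow p G) := by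
      have hlt := hgrow S hDS hneS
      obtain ⟨x, hx, hxD⟩ := SetLike.exists_of_lt hlt
      have hmem : ∀ y ∈ (S : Subgroup G) ⊓ N,
          (c : G) * y * (c : G)⁻¹ ∈ (R : Subgroup G) ⊓ ((c : G) • S : Sylow p G) := by
        intro y hy
        refine ⟨hR ⟨c * ⟨y, hy.2⟩ * c⁻¹, ?_, rfl⟩, ?_⟩
        · rw [← hcS1]
          exact Subgroup.smul_mem_pointwise_smul _ (MulAut.conj c) _ (hS1 hy)
        · exact Subgroup.smul_mem_pointwise_smul _ (MulAut.conj (c : G)) _ hy.1
      refine SetLike.lt_iff_le_and_exists.mpr ⟨fun y hy => ?_, _, hmem x hx, fun hcx => hxD ?_⟩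
      · simpa [hDc y hy] using hmem y (hlt.le hy)
      · have h4 := hDc _ hcx
        have h5 : (c : G) * x * (c : G)⁻¹ = x := by
          calc (c : G) * x * (c : G)⁻¹
              = (c : G)⁻¹ * ((c : G) * ((c : G) * x * (c : G)⁻¹) * (c : G)⁻¹) * c := by group
            _ = (c : G)⁻¹ * ((c : G) * x * (c : G)⁻¹) * c := by rw [h4]
            _ = x := by group
        rwa [h5] at hcx
    obtain ⟨u, hu, hu'⟩ := ih _ (hcard P R hPR) P R le_rfl
    obtain ⟨v, hv, hv'⟩ := ih _ (hcard R ((c : G) • S) hRS) R ((c : G) • S) le_rfl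
    refine ⟨u * v * c, mul_mem (mul_mem ?_ ?_) hc, by rw [mul_smul, mul_smul, hv', hu']⟩
    · exact Subgroup.centralizer_le hPR.le hu
    · exact Subgroup.centralizer_le hRS.le hv

/-- **Frobenius**: if `p'`-elements normalizing a nontrivial subgroup of `P` centralize it, there
is a normal `p`-complement. -/
theorem hasNormalPComplement_of_normalizer_centralizer [Fact p.Prime] [Finite G] (P : Sylow p G)
    (h : ∀ Q : Subgroup G, Q ≤ (P : Subgroup G) → Q ≠ ⊥ → ∀ g ∈ Subgroup.normalizer (Q : Set G),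
      Nat.Coprime (orderOf g) p → g ∈ Subgroup.centralizer (Q : Set G)) :
    HasNormalPComplement p G := by
  have h' : ∀ D : Subgroup G, IsPGroup p D → D ≠ ⊥ → ∀ g ∈ Subgroup.normalizer (D : Set G),
      Nat.Coprime (orderOf g) p → g ∈ Subgroup.centralizer (D : Set G) := by
    intro D hD hD0 g hg hgp
    obtain ⟨R, hR⟩ := hD.exists_le_sylow
    obtain ⟨r, hr⟩ := MulAction.exists_smul_eq G R P
    set e := MulAut.conj r
    have hle : D.map e.toMonoidHom ≤ (P : Subgroup G) := by
      rintro _ ⟨x, hx, rfl⟩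
      rw [← hr]
      exact Subgroup.smul_mem_pointwise_smul x e _ (hR hx)
    have hne : D.map e.toMonoidHom ≠ ⊥ := by
      rwa [Ne, Subgroup.map_eq_bot_iff_of_injective _ e.injective]
    have hgn : e g ∈ Subgroup.normalizer ((D.map e.toMonoidHom : Subgroup G) : Set G) :=
      Subgroup.le_normalizer_map _ ⟨g, hg, rfl⟩
    have := h _ hle hne _ hgn (by rwa [MulEquiv.orderOf_eq])
    rw [Subgroup.mem_centralizer_iff] at this ⊢
    intro x hx
    apply e.injective
    rw [map_mul, map_mul]
    exact this _ ⟨x, hx, rfl⟩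
  refine hasNormalPComplement_of_control P fun x hx y hy ⟨g, hg⟩ => ?_
  by_cases hx1 : x = 1
  · exact ⟨1, one_mem _, by simp [← hg, hx1]⟩
  obtain ⟨c, hc, hc'⟩ := exists_centralizer_smul_eq h' P (g⁻¹ • P)
  have hxS : x ∈ ((g⁻¹ • P : Sylow p G) : Subgroup G) := by
    have := Subgroup.smul_mem_pointwise_smul y (MulAut.conj g⁻¹) _ hy
    have he : MulAut.conj g⁻¹ • y = x := by simp [← hg, MulAut.smul_def, mul_assoc]
    rwa [he] at this
  have hcx : x * c = c * x := Subgroup.mem_centralizer_iff.mp hc x ⟨hx, hxS⟩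
  have hn : c * g⁻¹ ∈ Subgroup.normalizer ((P : Subgroup G) : Set G) :=
    Sylow.smul_eq_iff_mem_normalizer.mp (by rw [mul_smul]; exact hc')
  set n := g * c⁻¹ with hn_def
  have hnN : n ∈ Subgroup.normalizer ((P : Subgroup G) : Set G) := by
    simpa [hn_def] using inv_mem hn
  set N := Subgroup.normalizer ((P : Subgroup G) : Set G)
  have hcov : (P : Subgroup G).subgroupOf N ⊔
      (Subgroup.centralizer ((P : Subgroup G) : Set G)).subgroupOf N = ⊤ := by
    have hne : (P : Subgroup G) ≠ ⊥ := fun he => hx1 (by rw [he] at hx; exact hx)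
    exact sylow_sup_eq_top_of_coprime_mem (P.subtype Subgroup.le_normalizer) fun z hz =>
      h _ le_rfl hne z z.2 (by rwa [Subgroup.orderOf_coe])
  have : ((Subgroup.centralizer ((P : Subgroup G) : Set G)).subgroupOf N).Normal :=
    Subgroup.normal_subgroupOf_centralizer_normalizer _
  obtain ⟨a, ha, b, hb, hab⟩ := Subgroup.mem_sup_of_normal_right.mp
    (hcov.ge (Subgroup.mem_top (⟨n, hnN⟩ : N)))
  refine ⟨a, ha, ?_⟩
  have hbx : x * (b : G) = (b : G) * x := Subgroup.mem_centralizer_iff.mp hb x hx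
  have habn : (a : G) * b = n := congrArg Subtype.val hab
  calc (a : G) * x * (a : G)⁻¹ = (a : G) * (x * b) * (b : G)⁻¹ * (a : G)⁻¹ := by group
    _ = (a : G) * b * x * ((a : G) * b)⁻¹ := by rw [hbx]; group
    _ = g * (c⁻¹ * (x * c)) * g⁻¹ := by rw [habn, hn_def]; group
    _ = y := by rw [hcx, ← hg]; group

/-- Converse of Frobenius' criterion. -/
theorem mem_centralizer_of_hasNormalPComplement [Fact p.Prime] [Finite G]
    (h : HasNormalPComplement p G) {Q : Subgroup G} (hQ : IsPGroup p Q) {g : G}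
    (hg : g ∈ Subgroup.normalizer (Q : Set G)) (hgp : Nat.Coprime (orderOf g) p) :
    g ∈ Subgroup.centralizer (Q : Set G) := by
  rw [Subgroup.mem_centralizer_iff]
  intro q hq
  have h1 : q * g * q⁻¹ * g⁻¹ ∈ pResidual p G :=
    (pResidual p G).mul_mem (pResidual_normal.conj_mem g (mem_pResidual_of_coprime hgp) q)
      ((pResidual p G).inv_mem (mem_pResidual_of_coprime hgp))
  have h2 : q * g * q⁻¹ * g⁻¹ ∈ Q := by
    simpa [mul_assoc] using Q.mul_mem hq
      (((Subgroup.mem_normalizer_iff.mp hg) q⁻¹).mp (Q.inv_mem hq))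
  have := eq_one_of_coprime_of_mem hQ h2 ((mem_pResidual_iff_coprime h).mp h1)
  rwa [mul_inv_eq_one, mul_inv_eq_iff_eq_mul] at this

/-- An element of `q`-power order normalizing a `p`-subgroup `P` centralizes it, if `q` divides
no `p ^ i - 1` for `0 < i` with `p ^ i ∣ |P|`. -/
theorem mem_centralizer_of_not_dvd_pow_sub_one [hp : Fact p.Prime] [Finite G] {P : Subgroup G}
    (hP : IsPGroup p P) {q : ℕ} (hq : q.Prime) (hqp : q ≠ p)
    (h : ∀ i, 0 < i → p ^ i ∣ Nat.card P → ¬ q ∣ p ^ i - 1) {g : G} {k : ℕ}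
    (hg : orderOf g = q ^ k) (hgN : g ∈ Subgroup.normalizer (P : Set G)) :
    g ∈ Subgroup.centralizer (P : Set G) := by
  have := Fact.mk hq
  let N := Subgroup.normalizer (P : Set G)
  let g' : N := ⟨g, hgN⟩
  let φ : MulAut P := Subgroup.normalizerMonoidHom P g'
  have hQ : IsPGroup q (Subgroup.zpowers φ) := by
    have hd : orderOf φ ∣ q ^ k := by
      rw [← hg, ← Subgroup.orderOf_mk g hgN]
      exact orderOf_map_dvd _ g'
    obtain ⟨j, -, hj⟩ := (Nat.dvd_prime_pow hq).mp hd
    exact IsPGroup.of_card (n := j) (by rw [Nat.card_zpowers, hj])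
  let C : Subgroup P :=
    { carrier := {x | φ x = x}
      one_mem' := map_one φ
      mul_mem' := fun {a b} (ha : φ a = a) (hb : φ b = b) => by
        show φ (a * b) = a * b
        rw [map_mul, ha, hb]
      inv_mem' := fun {a} (ha : φ a = a) => by
        show φ a⁻¹ = a⁻¹
        rw [map_inv, ha] }
  have hfix : MulAction.fixedPoints (Subgroup.zpowers φ) P = (C : Set P) := by
    ext x
    constructor
    · exact fun hx => hx ⟨φ, Subgroup.mem_zpowers φ⟩
    · rintro hx ⟨ψ, hψ⟩
      have : φ ∈ MulAction.stabilizer (MulAut P) x := hx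
      exact (Subgroup.zpowers_le.mpr this) hψ
  have hmod := hQ.card_modEq_card_fixedPoints P
  rw [hfix] at hmod
  obtain ⟨n, hn⟩ := IsPGroup.iff_card.mp hP
  obtain ⟨j, hjn, hj⟩ : ∃ j ≤ n, Nat.card C = p ^ j :=
    (Nat.dvd_prime_pow hp.out).mp (hn ▸ Subgroup.card_subgroup_dvd_card C)
  have hC : Nat.card (C : Set P) = p ^ j := hj
  rw [hC, hn] at hmod
  have hdvd : q ∣ p ^ n - p ^ j :=
    (Nat.modEq_iff_dvd' (Nat.pow_le_pow_right hp.out.pos hjn)).mp hmod.symm
  rcases Nat.eq_or_lt_of_le hjn with hjn' | hjn'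
  · have htop : C = ⊤ := Subgroup.eq_top_of_card_eq C (by rw [hj, hjn', hn])
    rw [Subgroup.mem_centralizer_iff]
    intro x hx
    have hfx : φ ⟨x, hx⟩ = ⟨x, hx⟩ := (htop ▸ Subgroup.mem_top _ : (⟨x, hx⟩ : P) ∈ C)
    have : g * x * g⁻¹ = x := congrArg Subtype.val hfx
    rwa [mul_inv_eq_iff_eq_mul, eq_comm] at this
  · exfalso
    have hsplit : p ^ n - p ^ j = p ^ j * (p ^ (n - j) - 1) := by
      rw [Nat.mul_sub, ← pow_add, Nat.add_sub_cancel' hjn'.le, mul_one]
    rw [hsplit] at hdvd
    rcases hq.dvd_mul.mp hdvd with h1 | h1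
    · exact hqp ((Nat.prime_dvd_prime_iff_eq hq hp.out).mp (hq.dvd_of_dvd_pow h1))
    · exact h (n - j) (by omega) (hn ▸ pow_dvd_pow p (Nat.sub_le n j)) h1

/-- An abelian Sylow `p`-subgroup with no possible `p'`-automorphism in the group has a normal
complement (Burnside). -/
theorem hasNormalPComplement_of_not_dvd_pow_sub_one [hp : Fact p.Prime] [Finite G]
    (P : Sylow p G) (hP : IsMulCommutative P)
    (h : ∀ q : ℕ, q.Prime → q ∣ Nat.card G → q ≠ p → ∀ i, 0 < i →
      p ^ i ∣ Nat.card P → ¬ q ∣ p ^ i - 1) :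
    HasNormalPComplement p G := by
  set N := Subgroup.normalizer ((P : Subgroup G) : Set G)
  have hC : (Subgroup.centralizer ((P : Subgroup G) : Set G)).subgroupOf N = ⊤ := by
    refine eq_top_of_prime_pow_orderOf_mem fun q hq g ⟨k, hk⟩ => ?_
    rw [Subgroup.mem_subgroupOf]
    rcases Nat.eq_zero_or_pos k with hk0 | hk0
    · rw [hk0, pow_zero, orderOf_eq_one_iff] at hk
      simp [hk]
    by_cases hqp : q = p
    · subst hqp
      apply P.le_centralizer
      have hz : IsPGroup q (Subgroup.zpowers g) :=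
        IsPGroup.of_card (n := k) (by rw [Nat.card_zpowers, hk])
      have hnormal : ((P : Subgroup G).subgroupOf N).Normal := Subgroup.normal_in_normalizer
      obtain ⟨S, hS⟩ := hz.exists_le_sylow
      have : Subsingleton (Sylow q N) := by
        have := (P.subtype (N := N) Subgroup.le_normalizer).unique_of_normal hnormal
        infer_instance
      have hgS : g ∈ (S : Subgroup N) := hS (Subgroup.mem_zpowers g)
      rw [Subsingleton.elim S (P.subtype Subgroup.le_normalizer)] at hgS
      exact hgS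
    · refine mem_centralizer_of_not_dvd_pow_sub_one P.2 hq hqp (h q hq ?_ hqp) (k := k)
        (by rw [Subgroup.orderOf_coe, hk]) g.2
      calc q ∣ q ^ k := dvd_pow_self q (Nat.pos_iff_ne_zero.mp hk0)
        _ = orderOf g := hk.symm
        _ = orderOf (g : G) := (Subgroup.orderOf_coe g).symm
        _ ∣ Nat.card G := orderOf_dvd_natCard _
  exact ⟨P, _, inferInstance,
    MonoidHom.ker_transferSylow_isComplement' P (Subgroup.subgroupOf_eq_top.mp hC)⟩

end Cfsg.Agent.Transfer
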