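import Cfsg.Agent.Lib.Transfer.Abelian
import Cfsg.Agent.Lib.Transfer.Focal

/-!
# Tate's theorems

If a subgroup `H` containing a Sylow `p`-subgroup controls `p`-transfer (`P ∩ G' ≤ H'`), then
`P ∩ O^p(G) = P ∩ O^p(H)`; if a normal subgroup meets `P` in `Φ(P)`, it is `p`-nilpotent.
-/

namespace Cfsg.Agent.Transfer

open Cfsg

variable {p : ℕ} {G : Type*} [Group G]

open scoped IsMulCommutative in
/-- The basic transfer step in Tate's theorem: `H ⊔ N = ⊤`, `N` has no nontrivial `p`-quotient and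
`(N ∩ H) / L` is a central `p`-subgroup of `H / L`; then `x ↦ x ^ [G : H]` on `(N ∩ H) / L` extends to
a homomorphism on `H`. -/
theorem exists_transfer_extension [Finite G] {N H : Subgroup G} [N.Normal]
    (hN : pResidual p N = ⊤) (hHN : H ⊔ N = ⊤) {L : Subgroup H} [L.Normal]
    (hL : L ≤ N.subgroupOf H) (hcent : ⁅N.subgroupOf H, (⊤ : Subgroup H)⁆ ≤ L)
    (hp : IsPGroup p ((N.subgroupOf H).map (QuotientGroup.mk' L))) :
    ∃ μ : H →* (N.subgroupOf H).map (QuotientGroup.mk' L),
      ∀ x ∈ N.subgroupOf H, (μ x : H ⧸ L) = QuotientGroup.mk' L x ^ H.index := by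
  classical
  set A := (N.subgroupOf H).map (QuotientGroup.mk' L)
  have hA : ∀ a ∈ A, ∀ e : H ⧸ L, a * e = e * a := by
    rintro _ ⟨x, hx, rfl⟩ e
    obtain ⟨y, rfl⟩ := QuotientGroup.mk'_surjective L e
    rw [← map_mul, ← map_mul]
    refine (QuotientGroup.eq).mpr ?_
    have h1 := hcent (Subgroup.commutator_mem_commutator ((N.subgroupOf H).inv_mem hx)
      (Subgroup.mem_top (y⁻¹)))
    have h2 : (x * y)⁻¹ * (y * x) = y⁻¹ * x⁻¹ * y * x := by group
    rw [h2]
    have h3 := L.inv_mem h1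
    rw [commutatorElement_def] at h3
    convert h3 using 1
    group
  have : IsMulCommutative A := ⟨⟨fun a b => Subtype.ext (hA a a.2 b)⟩⟩
  let π : G →* G ⧸ N := QuotientGroup.mk' N
  let ψ : H ⧸ L →* G ⧸ N := QuotientGroup.lift L (π.comp H.subtype) fun x hx => by
    simpa [π, Subgroup.mem_subgroupOf] using hL hx
  have hψker : ψ.ker = A := by
    show (QuotientGroup.lift L _ _).ker = _
    rw [QuotientGroup.ker_lift]
    congr 1
    ext x
    simp [π, Subgroup.mem_subgroupOf]
  let E : Subgroup (G × (H ⧸ L)) :=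
    (π.comp (MonoidHom.fst G (H ⧸ L))).eqLocus (ψ.comp (MonoidHom.snd G (H ⧸ L)))
  let fstE : E →* G := (MonoidHom.fst G (H ⧸ L)).comp E.subtype
  have hfst : Function.Surjective fstE := by
    intro g
    obtain ⟨h, hh, n, hn, rfl⟩ :=
      Subgroup.mem_sup_of_normal_right.mp (hHN.ge (Subgroup.mem_top g))
    refine ⟨⟨(h * n, QuotientGroup.mk' L ⟨h, hh⟩), ?_⟩, rfl⟩
    show π (h * n) = π h
    rw [map_mul]
    simpa [π] using hn
  let T : Subgroup E := H.comap fstE
  let φ : T →* A :=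
    { toFun := fun t => ⟨(QuotientGroup.mk' L ⟨_, t.2⟩)⁻¹ * t.1.1.2, by
        rw [← hψker, MonoidHom.mem_ker, map_mul, map_inv]
        show (π t.1.1.1)⁻¹ * ψ t.1.1.2 = 1
        rw [inv_mul_eq_one]
        exact t.1.2⟩
      map_one' := Subtype.ext (by
        show (QuotientGroup.mk' L ⟨_, _⟩)⁻¹ * (1 : H ⧸ L) = 1
        rw [mul_one, inv_eq_one]
        exact map_one (QuotientGroup.mk' L))
      map_mul' := fun s t => Subtype.ext (by
        have hs : (QuotientGroup.mk' L ⟨_, s.2⟩)⁻¹ * s.1.1.2 ∈ A := by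
          rw [← hψker, MonoidHom.mem_ker, map_mul, map_inv]
          show (π s.1.1.1)⁻¹ * ψ s.1.1.2 = 1
          rw [inv_mul_eq_one]
          exact s.1.2
        show (QuotientGroup.mk' L (⟨_, s.2⟩ * ⟨_, t.2⟩))⁻¹ * (s.1.1.2 * t.1.1.2) =
          (QuotientGroup.mk' L ⟨_, s.2⟩)⁻¹ * s.1.1.2 *
            ((QuotientGroup.mk' L ⟨_, t.2⟩)⁻¹ * t.1.1.2)
        calc (QuotientGroup.mk' L (⟨_, s.2⟩ * ⟨_, t.2⟩))⁻¹ * (s.1.1.2 * t.1.1.2)
            = (QuotientGroup.mk' L ⟨_, t.2⟩)⁻¹ *
              ((QuotientGroup.mk' L ⟨_, s.2⟩)⁻¹ * s.1.1.2) * t.1.1.2 := by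
              rw [map_mul]; group
          _ = _ := by rw [← hA _ hs]; group) }
  let τ : E →* A := MonoidHom.transfer φ
  let diag : H →* E :=
    ((H.subtype).prod (QuotientGroup.mk' L)).codRestrict E fun x => rfl
  refine ⟨τ.comp diag, fun x hx => ?_⟩
  let inl : N →* E := (N.subtype.prod 1).codRestrict E fun n => by
    show π (n : G) = ψ 1
    rw [map_one]
    exact (QuotientGroup.eq_one_iff _).mpr n.2
  have h1 : τ (inl ⟨x, hx⟩) = 1 :=
    eq_one_of_pResidual_eq_top hN (τ.comp inl) hp _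
  let c : E := (inl ⟨x, hx⟩)⁻¹ * diag x
  have hc1 : ((c : E) : G × (H ⧸ L)).1 = 1 := by
    show (x : G)⁻¹ * x = 1
    group
  have hc2 : ((c : E) : G × (H ⧸ L)).2 = QuotientGroup.mk' L x := by
    show (1 : H ⧸ L)⁻¹ * QuotientGroup.mk' L x = _
    rw [inv_one, one_mul]
  have hcT : c ∈ T := by
    show ((c : E) : G × (H ⧸ L)).1 ∈ H
    rw [hc1]; exact H.one_mem
  have hcZ : c ∈ Subgroup.center E := by
    rw [Subgroup.mem_center_iff]
    intro e
    refine Subtype.ext (Prod.ext ?_ ?_)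
    · show e.1.1 * c.1.1 = c.1.1 * e.1.1
      rw [hc1, mul_one, one_mul]
    · show e.1.2 * c.1.2 = c.1.2 * e.1.2
      rw [hc2, hA (QuotientGroup.mk' L x) (Subgroup.mem_map_of_mem _ hx) e.1.2]
  have h2 : τ c = φ ⟨c, hcT⟩ ^ T.index :=
    transfer_eq_pow_of_mem_center φ (z := (⟨c, hcT⟩ : T)) hcZ
  have h3 : (φ ⟨c, hcT⟩ : H ⧸ L) = QuotientGroup.mk' L x := by
    show (QuotientGroup.mk' L ⟨_, _⟩)⁻¹ * c.1.2 = _
    rw [hc2]
    have : (⟨c.1.1, hcT⟩ : H) = 1 := Subtype.ext hc1
    rw [show (QuotientGroup.mk' L ⟨fstE c, hcT⟩ : H ⧸ L) = 1 by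
      exact (congrArg (QuotientGroup.mk' L) this).trans (map_one _)]
    rw [inv_one, one_mul]
  have hd : diag x = inl ⟨x, hx⟩ * c := (mul_inv_cancel_left _ _).symm
  have hidx : T.index = H.index := Subgroup.index_comap_of_surjective H hfst
  rw [MonoidHom.comp_apply, hd, map_mul, h1, one_mul, h2, Subgroup.coe_pow, h3, hidx]

/-- **Tate**: if `H` contains the Sylow `p`-subgroup `P` and `P ∩ G' ≤ H'`, then
`P ∩ O^p(G) = P ∩ O^p(H)`. -/
theorem sylow_inf_pResidual_eq_of_le_commutator [hp : Fact p.Prime] [Finite G] (P : Sylow p G)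
    {H : Subgroup G} (hPH : (P : Subgroup G) ≤ H)
    (h : (P : Subgroup G) ⊓ commutator G ≤ ⁅H, H⁆) :
    (P : Subgroup G) ⊓ pResidual p G = (P : Subgroup G) ⊓ (pResidual p H).map H.subtype := by
  refine le_antisymm ?_ (inf_le_inf_left _ (map_pResidual_le H.subtype))
  set N := pResidual p G
  set X : Subgroup H := N.subgroupOf H
  set M : Subgroup H := pResidual p H
  set L : Subgroup H := M ⊔ ⁅X, (⊤ : Subgroup H)⁆
  have hpH : ¬ p ∣ H.index := fun hd =>
    P.not_dvd_index (hd.trans (Subgroup.index_dvd_of_le hPH))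
  have hMX : M ≤ X := Subgroup.map_le_iff_le_comap.mp (map_pResidual_le H.subtype)
  have hLX : L ≤ X := sup_le hMX (Subgroup.commutator_le_left _ _)
  have hqM : IsPGroup p (H ⧸ M) := isPGroup_quotient_pResidual
  have hqL : IsPGroup p (H ⧸ L) := isPGroup_quotient_of_pResidual_le (le_sup_left)
  obtain ⟨μ, hμ⟩ := exists_transfer_extension (L := L) (pResidual_pResidual)
    (sup_pResidual_eq_top hpH) hLX le_sup_right (hqL.to_subgroup _)
  -- `P ∩ N ≤ L`
  have hQL : ∀ q : H, (q : G) ∈ (P : Subgroup G) ⊓ N → q ∈ L := by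
    intro q hq
    have hq' : q ∈ commutator H := by
      have := h (le_inf inf_le_left
        ((sylow_inf_pResidual_le_commutator P).trans inf_le_left) hq)
      rw [← Subgroup.map_subtype_commutator] at this
      obtain ⟨q', hq', he⟩ := this
      rwa [show q' = q from H.subtype_injective he] at hq'
    open scoped IsMulCommutative in
    have h1 : μ q = 1 := by
      have hA : IsMulCommutative (X.map (QuotientGroup.mk' L)) := by
        refine ⟨⟨fun ⟨_, a, ha, rfl⟩ ⟨_, b, _, rfl⟩ => Subtype.ext ?_⟩⟩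
        show QuotientGroup.mk' L a * QuotientGroup.mk' L b = QuotientGroup.mk' L b * QuotientGroup.mk' L a
        rw [← map_mul, ← map_mul]
        refine (QuotientGroup.eq).mpr ?_
        have h1 := (le_sup_right : _ ≤ L) (Subgroup.commutator_mem_commutator
          (X.inv_mem ha) (Subgroup.mem_top b⁻¹))
        have h3 := L.inv_mem h1
        rw [commutatorElement_def] at h3
        convert h3 using 1
        group
      exact Abelianization.commutator_subset_ker μ hq'
    have h2 := hμ q hq.2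
    rw [h1, Subgroup.coe_one, eq_comm] at h2
    have h3 : QuotientGroup.mk' L q = 1 := (hqL.powEquiv' hpH).injective (by simpa using h2)
    exact (QuotientGroup.eq_one_iff _).mp h3
  have hXL : X ≤ L := by
    intro x hx
    obtain ⟨u, hu, m, hm, rfl⟩ := Subgroup.mem_sup_of_normal_right.mp
      ((sylow_sup_pResidual_eq_top (P.subtype hPH)).ge (Subgroup.mem_top x))
    refine L.mul_mem (hQL u ⟨hu, ?_⟩) (le_sup_left (b := ⁅X, (⊤ : Subgroup H)⁆) hm)
    exact (X.mul_mem_cancel_right (hMX hm)).mp hx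
  have : Group.IsNilpotent (H ⧸ M) := hqM.isNilpotent
  have hbot : X.map (QuotientGroup.mk' M) = ⊥ := by
    refine eq_bot_of_le_commutator_top ((Subgroup.map_mono hXL).trans ?_)
    rw [Subgroup.map_sup, Subgroup.map_commutator,
      Subgroup.map_top_of_surjective _ (QuotientGroup.mk'_surjective M),
      QuotientGroup.map_mk'_self, bot_sup_eq]
  rw [Subgroup.map_eq_bot_iff, QuotientGroup.ker_mk'] at hbot
  rintro g ⟨hgP, hgN⟩
  exact ⟨hgP, ⟨⟨g, hPH hgP⟩, hbot hgN, rfl⟩⟩

/-- A `p`-perfect normal subgroup with `N ∩ P ≤ Φ(P)` and `G = P N` meets `P` trivially. -/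
theorem inf_eq_bot_of_le_frattini [hp : Fact p.Prime] [Finite G] (P : Sylow p G) {N : Subgroup G}
    [N.Normal] (hN : pResidual p N = ⊤) (hPN : (P : Subgroup G) ⊔ N = ⊤)
    (h : N.subgroupOf (P : Subgroup G) ≤ frattini P) :
    N.subgroupOf (P : Subgroup G) = ⊥ := by
  set X := N.subgroupOf (P : Subgroup G)
  set L : Subgroup (P : Subgroup G) := ⁅X, (⊤ : Subgroup (P : Subgroup G))⁆
  have hLX : L ≤ X := Subgroup.commutator_le_left _ _
  have hqL : IsPGroup p ((P : Subgroup G) ⧸ L) := P.2.to_quotient L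
  obtain ⟨μ, hμ⟩ := exists_transfer_extension (L := L) hN hPN hLX le_rfl (hqL.to_subgroup _)
  have htop : μ.ker ⊔ frattini P = ⊤ := by
    rw [eq_top_iff]
    intro u _
    obtain ⟨⟨_, x, hx, rfl⟩, he⟩ :=
      ((hqL.to_subgroup (X.map (QuotientGroup.mk' L))).powEquiv' P.not_dvd_index).surjective (μ u)
    have h1 : μ x = μ u := by
      rw [← he]
      exact Subtype.ext (by rw [hμ x hx]; simp)
    have h2 : u * x⁻¹ ∈ μ.ker := by rw [MonoidHom.mem_ker, map_mul, map_inv, h1, mul_inv_cancel]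
    simpa using mul_mem (Subgroup.mem_sup_left h2 : u * x⁻¹ ∈ μ.ker ⊔ frattini P)
      (Subgroup.mem_sup_right (h hx))
  have hker := frattini_nongenerating htop
  have : Group.IsNilpotent (P : Subgroup G) := P.2.isNilpotent
  refine eq_bot_of_le_commutator_top fun x hx => ?_
  have h1 : μ x = 1 := MonoidHom.mem_ker.mp (by rw [hker]; exact Subgroup.mem_top x)
  have h2 := hμ x hx
  rw [h1, Subgroup.coe_one, eq_comm] at h2
  have h3 : QuotientGroup.mk' L x = 1 := (hqL.powEquiv' P.not_dvd_index).injective (by simpa using h2)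
  exact (QuotientGroup.eq_one_iff _).mp h3

/-- **Tate**: a normal subgroup meeting `P` inside `Φ(P)` has a normal `p`-complement. -/
theorem hasNormalPComplement_of_inf_le_frattini [hp : Fact p.Prime] [Finite G] (P : Sylow p G)
    (N : Subgroup G) [N.Normal]
    (h : N ⊓ (P : Subgroup G) ≤ (frattini P).map (P : Subgroup G).subtype) :
    HasNormalPComplement p N := by
  set N₀ : Subgroup G := (pResidual p N).map N.subtype
  set W : Subgroup G := (P : Subgroup G) ⊔ N₀
  have hPW : (P : Subgroup G) ≤ W := le_sup_left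
  have hN₀W : N₀ ≤ W := le_sup_right
  let PW : Sylow p W := P.subtype hPW
  have hN₀perf : pResidual p (N₀.subgroupOf W) = ⊤ := by
    rw [← map_pResidual_equiv (((pResidual p N).equivMapOfInjective N.subtype
      N.subtype_injective).trans (Subgroup.subgroupOfEquivOfLe hN₀W).symm), pResidual_pResidual,
      Subgroup.map_top_of_surjective _ (MulEquiv.surjective _)]
  have hsup : (PW : Subgroup W) ⊔ N₀.subgroupOf W = ⊤ := by
    show (P : Subgroup G).subgroupOf W ⊔ N₀.subgroupOf W = ⊤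
    rw [← Subgroup.subgroupOf_sup hPW hN₀W, Subgroup.subgroupOf_self]
  have hfr : (N₀.subgroupOf W).subgroupOf (PW : Subgroup W) ≤ frattini PW := by
    intro x hx
    let e : (PW : Subgroup W) ≃* (P : Subgroup G) := Subgroup.subgroupOfEquivOfLe hPW
    obtain ⟨y, hy, hyx⟩ := h (x := (x : W)) ⟨Subgroup.map_subtype_le _ hx, x.2⟩
    have h1 : e x = y := Subtype.ext hyx.symm
    have h2 := frattini_le_comap_frattini_of_surjective (φ := e.symm.toMonoidHom)
      e.symm.surjective hy
    rw [← h1] at h2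
    simpa using h2
  have hbot := inf_eq_bot_of_le_frattini PW hN₀perf hsup hfr
  rw [hasNormalPComplement_iff_not_dvd]
  intro hd
  have hd' : p ∣ Nat.card (N₀.subgroupOf W) := by
    rw [Nat.card_congr (Subgroup.subgroupOfEquivOfLe hN₀W).toEquiv,
      ← Nat.card_congr ((pResidual p N).equivMapOfInjective _ N.subtype_injective).toEquiv]
    exact hd
  obtain ⟨Q, hQ⟩ := exists_sylow_subgroupOf_normal PW (N₀.subgroupOf W)
  refine Sylow.ne_bot_of_dvd_card Q hd' ?_
  rw [hQ, Subgroup.subgroupOf_eq_bot, disjoint_comm, ← Subgroup.subgroupOf_eq_bot]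
  exact hbot

end Cfsg.Agent.Transfer
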