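import Cfsg.Agent.Lib.Transfer.Frobenius
import Mathlib.GroupTheory.GroupAction.ConjAct
import Mathlib.Algebra.Group.Conj
import Mathlib.Algebra.BigOperators.Finprod
import Mathlib.Data.Fintype.BigOperators

/-!
# Counting the conjugacy classes of `p`-elements
-/

namespace Cfsg.Agent.Transfer

open Cfsg
open scoped Pointwise

/-- If every non-singleton orbit has at least `m` points, then
`m * #orbits ≤ #X + (m - 1) * #fixed points`. -/
theorem mul_card_orbits_le {M X : Type*} [Group M] [MulAction M X] [Finite X] (m : ℕ)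
    (h : ∀ x : X, x ∉ MulAction.fixedPoints M X → m ≤ Nat.card (MulAction.orbit M x)) :
    m * Nat.card (MulAction.orbitRel.Quotient M X) ≤
      Nat.card X + (m - 1) * Nat.card (MulAction.fixedPoints M X) := by
  classical
  have : Fintype X := Fintype.ofFinite X
  have : Fintype (MulAction.orbitRel.Quotient M X) := Fintype.ofFinite _
  set S : Finset (MulAction.orbitRel.Quotient M X) :=
    Finset.univ.filter fun ω => ω.out ∈ MulAction.fixedPoints M X
  have hX : Nat.card X = ∑ ω : MulAction.orbitRel.Quotient M X,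
      Nat.card (MulAction.orbit M ω.out) := by
    rw [Nat.card_congr (MulAction.selfEquivSigmaOrbits M X), Nat.card_sigma]
  have hS : S.card ≤ Nat.card (MulAction.fixedPoints M X) := by
    rw [← Fintype.card_coe, ← Nat.card_eq_fintype_card]
    refine Nat.card_le_card_of_injective (fun ω => ⟨ω.1.out, (Finset.mem_filter.mp ω.2).2⟩) ?_
    intro a b hab
    refine Subtype.ext ?_
    have h1 : a.1.out = b.1.out := congrArg Subtype.val hab
    rw [← Quotient.out_eq a.1, ← Quotient.out_eq b.1, h1]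
  have hle : ∀ ω : MulAction.orbitRel.Quotient M X,
      m ≤ Nat.card (MulAction.orbit M ω.out) + if ω ∈ S then m - 1 else 0 := by
    intro ω
    have hpos : 0 < Nat.card (MulAction.orbit M ω.out) :=
      Nat.card_pos_iff.mpr ⟨⟨⟨_, MulAction.mem_orbit_self _⟩⟩, inferInstance⟩
    by_cases hω : ω ∈ S
    · rw [if_pos hω]; omega
    · rw [if_neg hω, add_zero]
      exact h _ fun hf => hω (Finset.mem_filter.mpr ⟨Finset.mem_univ _, hf⟩)
  have hsum := Finset.sum_le_sum (s := Finset.univ) fun ω _ => hle ω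
  rw [Finset.sum_const, smul_eq_mul, Finset.sum_add_distrib, ← hX, Finset.sum_ite_mem,
    Finset.univ_inter, Finset.sum_const, smul_eq_mul, mul_comm S.card,
    Finset.card_univ, ← Nat.card_eq_fintype_card, mul_comm _ m] at hsum
  exact hsum.trans (by gcongr)

theorem two_mul_card_orbits_le {M X : Type*} [Group M] [MulAction M X] [Finite X] :
    2 * Nat.card (MulAction.orbitRel.Quotient M X) ≤
      Nat.card X + Nat.card (MulAction.fixedPoints M X) := by
  simpa using mul_card_orbits_le (M := M) (X := X) 2 fun x hx => by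
    rw [Nat.card_coe_set_eq, Nat.succ_le_iff, Set.one_lt_ncard (Set.toFinite _)]
    rw [MulAction.mem_fixedPoints] at hx
    push Not at hx
    obtain ⟨a, ha⟩ := hx
    exact ⟨a • x, ⟨a, rfl⟩, x, MulAction.mem_orbit_self x, ha⟩

variable {p : ℕ} {G : Type*} [Group G] [Finite G] [Fact p.Prime]

/-- Every `p`-element is conjugate into a given Sylow `p`-subgroup. -/
theorem exists_conj_mem_sylow (P : Sylow p G) {x : G} {k : ℕ} (hx : orderOf x = p ^ k) :
    ∃ g : G, g * x * g⁻¹ ∈ (P : Subgroup G) := by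
  obtain ⟨S, hS⟩ := (IsPGroup.of_card (n := k) (by rw [Nat.card_zpowers, hx]) :
    IsPGroup p (Subgroup.zpowers x)).exists_le_sylow
  obtain ⟨g, hg⟩ := MulAction.exists_smul_eq G S P
  refine ⟨g, ?_⟩
  rw [← hg]
  exact Subgroup.smul_mem_pointwise_smul x (MulAut.conj g) _ (hS (Subgroup.mem_zpowers x))

/-- A map out of a Sylow subgroup whose fibres consist of `G`-conjugate elements bounds the
number of classes of `p`-elements. -/
theorem card_pClasses_le_of_fibres (P : Sylow p G) {Y : Type*} [Finite Y]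
    (f : ↥(P : Subgroup G) → Y)
    (hf : ∀ a b : (P : Subgroup G), f a = f b → ConjClasses.mk (a : G) = ConjClasses.mk (b : G)) :
    Nat.card {c : ConjClasses G // ∀ x ∈ c.carrier, ∃ k : ℕ, orderOf x = p ^ k} ≤ Nat.card Y := by
  classical
  have key : ∀ c : {c : ConjClasses G // ∀ x ∈ c.carrier, ∃ k : ℕ, orderOf x = p ^ k},
      ∃ a : (P : Subgroup G), ConjClasses.mk (a : G) = c.1 := by
    rintro ⟨c, hc⟩
    obtain ⟨x, rfl⟩ := ConjClasses.exists_rep c
    obtain ⟨k, hk⟩ := hc x ConjClasses.mem_carrier_mk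
    obtain ⟨g, hg⟩ := exists_conj_mem_sylow P hk
    exact ⟨⟨_, hg⟩, (ConjClasses.mk_eq_mk_iff_isConj.mpr (isConj_iff.mpr ⟨g, rfl⟩)).symm⟩
  refine Nat.card_le_card_of_injective (fun c => f (key c).choose) fun c d hcd => Subtype.ext ?_
  rw [← (key c).choose_spec, ← (key d).choose_spec]
  exact hf _ _ hcd

/-- The classes of `p`-elements are at most the orbits on `P` of any group of automorphisms
induced by elements of `G`. -/
theorem card_pClasses_le_orbits (P : Sylow p G) (A : Subgroup (MulAut (P : Subgroup G)))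
    (hA : ∀ a ∈ A, ∃ g : G, ∀ x : (P : Subgroup G), ((a x : (P : Subgroup G)) : G) = g * x * g⁻¹) :
    Nat.card {c : ConjClasses G // ∀ x ∈ c.carrier, ∃ k : ℕ, orderOf x = p ^ k} ≤
      Nat.card (MulAction.orbitRel.Quotient A (P : Subgroup G)) := by
  refine card_pClasses_le_of_fibres P (fun x => Quotient.mk'' x) fun a b hab => ?_
  obtain ⟨⟨φ, hφ⟩, rfl⟩ := MulAction.orbitRel_apply.mp (Quotient.exact' hab)
  obtain ⟨g, hg⟩ := hA φ hφ
  exact (ConjClasses.mk_eq_mk_iff_isConj.mpr (isConj_iff.mpr ⟨g, (hg b).symm⟩)).symm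

/-- The classes of `p`-elements are at most the classes of a Sylow `p`-subgroup. -/
theorem card_pClasses_le_card_conjClasses (P : Sylow p G) :
    Nat.card {c : ConjClasses G // ∀ x ∈ c.carrier, ∃ k : ℕ, orderOf x = p ^ k} ≤
      Nat.card (ConjClasses (P : Subgroup G)) := by
  have : Finite (ConjClasses (P : Subgroup G)) := Finite.of_surjective _ ConjClasses.mk_surjective
  refine card_pClasses_le_of_fibres P ConjClasses.mk fun a b hab => ?_
  obtain ⟨c, hc⟩ := isConj_iff.mp (ConjClasses.mk_eq_mk_iff_isConj.mp hab)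
  exact ConjClasses.mk_eq_mk_iff_isConj.mpr (isConj_iff.mpr ⟨c, congrArg Subtype.val hc⟩)

/-- With a normal `p`-complement, `G`-conjugate elements of `P` are conjugate in `P`. -/
theorem conj_of_hasNormalPComplement (h : HasNormalPComplement p G) (P : Sylow p G) {x g : G}
    (hx : x ∈ (P : Subgroup G)) (hy : g * x * g⁻¹ ∈ (P : Subgroup G)) :
    ∃ u ∈ (P : Subgroup G), u * x * u⁻¹ = g * x * g⁻¹ := by
  obtain ⟨u, hu, n, hn, rfl⟩ := Subgroup.mem_sup_of_normal_right.mp
    ((sylow_sup_pResidual_eq_top P).ge (Subgroup.mem_top g))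
  refine ⟨u, hu, ?_⟩
  have h1 : n * x * n⁻¹ * x⁻¹ ∈ pResidual p G := by
    have := (pResidual p G).mul_mem hn (pResidual_normal.conj_mem _ ((pResidual p G).inv_mem hn) x)
    simpa [mul_assoc] using this
  have h2 : n * x * n⁻¹ * x⁻¹ ∈ (P : Subgroup G) := by
    have := (P : Subgroup G).mul_mem ((P : Subgroup G).mul_mem ((P : Subgroup G).mul_mem
      ((P : Subgroup G).inv_mem hu) hy) hu) ((P : Subgroup G).inv_mem hx)
    simpa [mul_assoc] using this
  have h3 := mul_inv_eq_one.mp (Subgroup.mem_bot.mp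
    ((hasNormalPComplement_iff_inf_eq_bot P).mp h ▸ Subgroup.mem_inf.mpr ⟨h2, h1⟩))
  calc u * x * u⁻¹ = u * (n * x * n⁻¹) * u⁻¹ := by rw [h3]
    _ = _ := by group

/-- With a normal `p`-complement, there are at least as many classes of `p`-elements as classes
of `P`. -/
theorem card_conjClasses_le_pClasses (h : HasNormalPComplement p G) (P : Sylow p G) :
    Nat.card (ConjClasses (P : Subgroup G)) ≤
      Nat.card {c : ConjClasses G // ∀ x ∈ c.carrier, ∃ k : ℕ, orderOf x = p ^ k} := by
  have : Finite (ConjClasses G) := Finite.of_surjective _ ConjClasses.mk_surjective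
  refine Nat.card_le_card_of_injective (fun c => ⟨ConjClasses.mk (c.out : G), ?_⟩) ?_
  · intro y hy
    rw [ConjClasses.mem_carrier_iff_mk_eq, ConjClasses.mk_eq_mk_iff_isConj, isConj_comm,
      isConj_iff] at hy
    obtain ⟨g, rfl⟩ := hy
    obtain ⟨k, hk⟩ := IsPGroup.iff_orderOf.mp P.2 c.out
    refine ⟨k, ?_⟩
    rw [← hk, ← Subgroup.orderOf_coe]
    exact MulEquiv.orderOf_eq (MulAut.conj g) _
  · intro c d hcd
    have hcd' : ConjClasses.mk (c.out : G) = ConjClasses.mk (d.out : G) :=
      congrArg Subtype.val hcd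
    obtain ⟨g, hg⟩ := isConj_iff.mp (ConjClasses.mk_eq_mk_iff_isConj.mp hcd')
    obtain ⟨u, hu, hu'⟩ := conj_of_hasNormalPComplement h P c.out.2 (by rw [hg]; exact d.out.2)
    rw [← Quotient.out_eq c, ← Quotient.out_eq d]
    exact ConjClasses.mk_eq_mk_iff_isConj.mpr
      (isConj_iff.mpr ⟨⟨u, hu⟩, Subtype.ext (hu'.trans hg)⟩)

end Cfsg.Agent.Transfer
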