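import Mathlib.GroupTheory.Nilpotent
import Mathlib.GroupTheory.SchurZassenhaus
import Cfsg.Agent.Lib.Transfer.Frobenius

/-!
# Nilpotent Hall subgroups: conjugacy and normal complements; conjugacy of complements of abelian
normal Hall subgroups
-/

namespace Cfsg.Agent.Transfer

open Cfsg
open scoped Pointwise

variable {G : Type*} [Group G]

theorem nilpotent_sylow_normal [Finite G] (hG : Group.IsNilpotent G) {p : ℕ} [hp : Fact p.Prime]
    (P : Sylow p G) : (P : Subgroup G).Normal :=
  inferInstance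

theorem nilpotent_mem_sylow [Finite G] (hG : Group.IsNilpotent G) {p : ℕ} [Fact p.Prime]
    (P : Sylow p G) {x : G} {k : ℕ} (hx : orderOf x = p ^ k) : x ∈ (P : Subgroup G) := by
  obtain ⟨S, hS⟩ := (IsPGroup.of_card (n := k) (by rw [Nat.card_zpowers, hx]) :
    IsPGroup p (Subgroup.zpowers x)).exists_le_sylow
  have := P.unique_of_normal (nilpotent_sylow_normal hG P)
  rw [Subsingleton.elim P S]
  exact hS (Subgroup.mem_zpowers x)

/-- In a finite nilpotent group, elements of coprime orders commute. -/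
theorem nilpotent_commute_of_coprime [Finite G] (hG : Group.IsNilpotent G) {x y : G}
    (h : Nat.Coprime (orderOf x) (orderOf y)) : Commute x y := by
  have key : ∀ (p q : ℕ), p.Prime → q.Prime → p ≠ q → ∀ (a b : G) (i j : ℕ),
      orderOf a = p ^ i → orderOf b = q ^ j → Commute a b := by
    intro p q hp hq hpq a b i j ha hb
    have := Fact.mk hp
    have := Fact.mk hq
    exact Subgroup.commute_of_normal_of_disjoint _ _
      (nilpotent_sylow_normal hG (default : Sylow p G))
      (nilpotent_sylow_normal hG (default : Sylow q G))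
      (IsPGroup.disjoint_of_ne p q hpq _ _ (default : Sylow p G).2 (default : Sylow q G).2) a b
      (nilpotent_mem_sylow hG _ ha) (nilpotent_mem_sylow hG _ hb)
  have step : ∀ (a b : G) (q i : ℕ), q.Prime → orderOf b = q ^ i →
      Nat.Coprime (orderOf a) (orderOf b) → Commute a b := by
    intro a b q i hq hb hab
    have htop : (Subgroup.centralizer {b}).subgroupOf (Subgroup.zpowers a) = ⊤ := by
      refine eq_top_of_prime_pow_orderOf_mem fun p hp c ⟨j, hj⟩ => ?_
      rw [Subgroup.mem_subgroupOf, Subgroup.mem_centralizer_singleton_iff]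
      rw [← Subgroup.orderOf_coe] at hj
      rcases Nat.eq_zero_or_pos j with hj0 | hj0
      · rw [hj0, pow_zero, orderOf_eq_one_iff] at hj
        simp [hj]
      rcases Nat.eq_zero_or_pos i with hi0 | hi0
      · rw [hi0, pow_zero, orderOf_eq_one_iff] at hb
        simp [hb]
      refine key p q hp hq ?_ _ b j i hj hb
      rintro rfl
      refine hp.ne_one (Nat.eq_one_of_dvd_coprimes hab ?_ (hb ▸ dvd_pow_self p hi0.ne'))
      calc p ∣ p ^ j := dvd_pow_self p hj0.ne'
        _ = orderOf (c : G) := hj.symm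
        _ ∣ orderOf a := by
          rw [← Nat.card_zpowers a]
          exact Subgroup.orderOf_dvd_natCard _ c.2
    exact Subgroup.mem_centralizer_singleton_iff.mp
      (Subgroup.subgroupOf_eq_top.mp htop (Subgroup.mem_zpowers a))
  have htop : (Subgroup.centralizer {x}).subgroupOf (Subgroup.zpowers y) = ⊤ := by
    refine eq_top_of_prime_pow_orderOf_mem fun q hq c ⟨i, hi⟩ => ?_
    rw [Subgroup.mem_subgroupOf, Subgroup.mem_centralizer_singleton_iff]
    rw [← Subgroup.orderOf_coe] at hi
    refine (step x c q i hq hi (h.coprime_dvd_right ?_)).symm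
    rw [← Nat.card_zpowers y]
    exact Subgroup.orderOf_dvd_natCard _ c.2
  exact (Subgroup.mem_centralizer_singleton_iff.mp
    (Subgroup.subgroupOf_eq_top.mp htop (Subgroup.mem_zpowers y))).symm

/-- For a nilpotent Hall subgroup `H`, a Sylow subgroup of `H` is one of `G`. -/
theorem exists_sylow_map_of_hall [Finite G] {H : Subgroup G}
    (hHall : Nat.Coprime (Nat.card H) H.index) {p : ℕ} [hp : Fact p.Prime]
    (hpH : p ∣ Nat.card H) (Q : Sylow p H) :
    ∃ P : Sylow p G, (P : Subgroup G) = (Q : Subgroup H).map H.subtype := by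
  refine ⟨(Q.2.map H.subtype).toSylow ?_, rfl⟩
  rw [Subgroup.index_map_subtype]
  intro hd
  rcases hp.out.dvd_mul.mp hd with h1 | h1
  · exact Q.not_dvd_index h1
  · exact hp.out.ne_one (Nat.eq_one_of_dvd_coprimes hHall hpH h1)

/-- **Wielandt**: nilpotent Hall subgroups of the same order are conjugate. -/
theorem nilpotent_hall_conj [Finite G] (H K : Subgroup G) (hH : Group.IsNilpotent H)
    (hK : Group.IsNilpotent K) (hHall : Nat.Coprime (Nat.card H) H.index)
    (hcard : Nat.card H = Nat.card K) :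
    ∃ g : G, H.map (MulAut.conj g).toMonoidHom = K := by
  have hKHall : Nat.Coprime (Nat.card K) K.index := by
    have hidx : K.index = H.index := by
      have h1 := H.card_mul_index
      rw [hcard, ← K.card_mul_index] at h1
      exact (Nat.eq_of_mul_eq_mul_left Nat.card_pos h1).symm
    rw [hidx, ← hcard]; exact hHall
  suffices ∀ s : Finset ℕ, ∃ g : G, ∀ q ∈ s, ∀ x ∈ H, (∃ k, orderOf x = q ^ k) → q.Prime →
      g * x * g⁻¹ ∈ K by
    obtain ⟨g, hg⟩ := this (Nat.card H).primeFactors
    refine ⟨g, Subgroup.eq_of_le_of_card_ge (Subgroup.map_le_iff_le_comap.mpr ?_) ?_⟩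
    · refine Subgroup.subgroupOf_eq_top.mp (eq_top_of_prime_pow_orderOf_mem fun q hq x ⟨k, hk⟩ => ?_)
      rw [Subgroup.mem_subgroupOf, Subgroup.mem_comap]
      rcases Nat.eq_zero_or_pos k with hk0 | hk0
      · rw [hk0, pow_zero, orderOf_eq_one_iff] at hk
        simp [hk]
      refine hg q (Nat.mem_primeFactors.mpr ⟨hq, ?_, Nat.card_pos.ne'⟩) x x.2
        ⟨k, by rw [Subgroup.orderOf_coe, hk]⟩ hq
      calc q ∣ q ^ k := dvd_pow_self q hk0.ne'
        _ = orderOf x := hk.symm
        _ ∣ Nat.card H := orderOf_dvd_natCard x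
    · exact (le_of_eq hcard.symm).trans (le_of_eq
        (Nat.card_congr (H.equivMapOfInjective _ (MulAut.conj g).injective).toEquiv))
  intro s
  induction s using Finset.induction with
  | empty => exact ⟨1, by simp⟩
  | insert r s hrs ih =>
    obtain ⟨g, hg⟩ := ih
    by_cases hr : r.Prime ∧ r ∣ Nat.card H
    swap
    · refine ⟨g, fun q hq x hx ⟨k, hk⟩ hqp => ?_⟩
      rcases Finset.mem_insert.mp hq with rfl | hq
      · rcases Nat.eq_zero_or_pos k with hk0 | hk0
        · rw [hk0, pow_zero, orderOf_eq_one_iff] at hk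
          simp [hk]
        · exact absurd ⟨hqp, ((dvd_pow_self q hk0.ne').trans hk.symm.dvd).trans
            (Subgroup.orderOf_dvd_natCard H hx)⟩ hr
      · exact hg q hq x hx ⟨k, hk⟩ hqp
    obtain ⟨hr, hrH⟩ := hr
    have := Fact.mk hr
    -- the already matched part of `K`
    set T : Set G := {z | ∃ q ∈ s, ∃ x ∈ H, q.Prime ∧ (∃ k, orderOf x = q ^ k) ∧ g * x * g⁻¹ = z}
    set C : Subgroup G := Subgroup.centralizer T
    obtain ⟨PH, hPH⟩ := exists_sylow_map_of_hall hHall hrH (default : Sylow r H)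
    obtain ⟨PK, hPK⟩ := exists_sylow_map_of_hall hKHall (hcard ▸ hrH) (default : Sylow r K)
    have hcomm : ∀ (A : Subgroup G), Group.IsNilpotent A → ∀ a ∈ A, ∀ b ∈ A, ∀ q k i : ℕ,
        q.Prime → q ≠ r → orderOf a = r ^ i → orderOf b = q ^ k → b * a = a * b := by
      intro A hA a ha b hb q k i hq hqr hoa hob
      refine congrArg Subtype.val
        (nilpotent_commute_of_coprime hA (x := (⟨b, hb⟩ : A)) (y := ⟨a, ha⟩) ?_).eq
      rw [Subgroup.orderOf_mk, Subgroup.orderOf_mk, hoa, hob]
      exact Nat.Coprime.pow _ _ ((Nat.coprime_primes hq hr).mpr hqr)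
    have hKC : (PK : Subgroup G) ≤ C := by
      intro a ha
      rw [Subgroup.mem_centralizer_iff]
      rintro z ⟨q, hq, x, hx, hqp, ⟨k, hk⟩, rfl⟩
      have haK : a ∈ K := (hPK ▸ Subgroup.map_subtype_le _) ha
      obtain ⟨i, hi⟩ := IsPGroup.iff_orderOf.mp PK.2 ⟨a, ha⟩
      rw [Subgroup.orderOf_mk] at hi
      refine hcomm K hK a haK _ (hg q hq x hx ⟨k, hk⟩ hqp) q k i hqp ?_ hi ?_
      · rintro rfl; exact hrs hq
      · rw [← hk]; exact MulEquiv.orderOf_eq (MulAut.conj g) x
    have hHC : ((g • PH : Sylow r G) : Subgroup G) ≤ C := by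
      rintro _ ⟨a, ha, rfl⟩
      rw [Subgroup.mem_centralizer_iff]
      rintro z ⟨q, hq, x, hx, hqp, ⟨k, hk⟩, rfl⟩
      have haH : a ∈ H := (hPH ▸ Subgroup.map_subtype_le _) ha
      obtain ⟨i, hi⟩ := IsPGroup.iff_orderOf.mp PH.2 ⟨a, ha⟩
      rw [Subgroup.orderOf_mk] at hi
      have := hcomm H hH a haH x hx q k i hqp (by rintro rfl; exact hrs hq) hi hk
      show g * x * g⁻¹ * (g * a * g⁻¹) = g * a * g⁻¹ * (g * x * g⁻¹)
      calc g * x * g⁻¹ * (g * a * g⁻¹) = g * (x * a) * g⁻¹ := by group
        _ = g * (a * x) * g⁻¹ := by rw [this]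
        _ = _ := by group
    obtain ⟨c, hc⟩ := MulAction.exists_smul_eq C ((g • PH).subtype hHC) (PK.subtype hKC)
    rw [Sylow.smul_subtype] at hc
    have hc2 : (c : G) • (g • PH) = PK := Sylow.subtype_injective hc
    refine ⟨(c : G) * g, fun q hq x hx ⟨k, hk⟩ hqp => ?_⟩
    rcases Finset.mem_insert.mp hq with rfl | hq
    · have hxP : x ∈ (PH : Subgroup G) := by
        rw [hPH]
        exact ⟨⟨x, hx⟩, nilpotent_mem_sylow hH _ (by rw [Subgroup.orderOf_mk, hk]), rfl⟩
      have := Subgroup.smul_mem_pointwise_smul x (MulAut.conj ((c : G) * g)) _ hxP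
      rw [← Sylow.coe_subgroup_smul, mul_smul, hc2, hPK] at this
      exact Subgroup.map_subtype_le _ this
    · have hcx : g * x * g⁻¹ * c = c * (g * x * g⁻¹) :=
        Subgroup.mem_centralizer_iff.mp c.2 _ ⟨q, hq, x, hx, hqp, ⟨k, hk⟩, rfl⟩
      have : (c : G) * g * x * ((c : G) * g)⁻¹ = g * x * g⁻¹ := by
        calc (c : G) * g * x * ((c : G) * g)⁻¹ = (c : G) * (g * x * g⁻¹) * (c : G)⁻¹ := by group
          _ = g * x * g⁻¹ := by rw [← hcx]; group
      rw [this]
      exact hg q hq x hx ⟨k, hk⟩ hqp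

/-- A nilpotent Hall subgroup which controls its own fusion has a normal complement. -/
theorem exists_normal_complement_of_hall_control [Finite G] (H : Subgroup G)
    (hH : Group.IsNilpotent H) (hHall : Nat.Coprime (Nat.card H) H.index)
    (h : ∀ x ∈ H, ∀ y ∈ H, (∃ g : G, g * x * g⁻¹ = y) → ∃ k ∈ H, k * x * k⁻¹ = y) :
    ∃ N : Subgroup G, N.Normal ∧ N.IsComplement' H := by
  set N : Subgroup G := ⨅ p ∈ (Nat.card H).primeFactors, pResidual p G
  have hNn : N.Normal := Subgroup.normal_iInf_normal fun p =>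
    Subgroup.normal_iInf_normal fun _ => pResidual_normal
  have hcomp : ∀ p ∈ (Nat.card H).primeFactors, HasNormalPComplement p G := by
    intro p hp
    obtain ⟨hp, hpH, -⟩ := Nat.mem_primeFactors.mp hp
    have := Fact.mk hp
    obtain ⟨P, hP⟩ := exists_sylow_map_of_hall hHall hpH (default : Sylow p H)
    refine hasNormalPComplement_of_control P fun x hx y hy hxy => ?_
    have hPH : (P : Subgroup G) ≤ H := hP ▸ Subgroup.map_subtype_le _
    obtain ⟨k, hk, hk'⟩ := h x (hPH hx) y (hPH hy) hxy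
    set CH : Subgroup H := Subgroup.centralizer {(⟨x, hPH hx⟩ : H)}
    have hcov : ((default : Sylow p H) : Subgroup H) ⊔ pResidual p H = ⊤ :=
      sylow_sup_pResidual_eq_top _
    obtain ⟨u, hu, v, hv, huv⟩ := Subgroup.mem_sup_of_normal_right.mp
      (hcov.ge (Subgroup.mem_top (⟨k, hk⟩ : H)))
    have hvC : v ∈ CH := by
      refine (pResidual_le_iff.mpr fun z hz => ?_) hv
      rw [Subgroup.mem_centralizer_singleton_iff]
      refine (nilpotent_commute_of_coprime hH ?_).eq
      obtain ⟨j, hj⟩ := IsPGroup.iff_orderOf.mp P.2 ⟨x, hx⟩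
      rw [Subgroup.orderOf_mk] at hj
      rw [Subgroup.orderOf_mk x]
      rw [hj]
      exact hz.pow_right j
    rw [Subgroup.mem_centralizer_singleton_iff] at hvC
    refine ⟨u, hP ▸ ⟨u, hu, rfl⟩, ?_⟩
    have h1 : (v : G) * x = x * v := congrArg Subtype.val hvC
    have h2 : (u : G) * v = k := congrArg Subtype.val huv
    rw [← hk', ← h2]
    calc (u : G) * x * (u : G)⁻¹ = (u : G) * (x * v) * (v : G)⁻¹ * (u : G)⁻¹ := by group
      _ = _ := by rw [← h1]; group
  have hidx : ∀ q : ℕ, q.Prime → q ∣ N.index → q ∈ (Nat.card H).primeFactors := by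
    intro q hq hqN
    by_contra hqn
    have := Fact.mk hq
    rw [Subgroup.index_eq_card] at hqN
    obtain ⟨z, hz⟩ := exists_prime_orderOf_dvd_card' q hqN
    obtain ⟨g, rfl⟩ := QuotientGroup.mk'_surjective N z
    have hgN : g ^ (orderOf g / q ^ (orderOf g).factorization q) ∈ N → False := by
      intro hmem
      have h1 : orderOf (QuotientGroup.mk' N g) ∣ orderOf g / q ^ (orderOf g).factorization q :=
        orderOf_dvd_of_pow_eq_one (by rw [← map_pow]; exact (QuotientGroup.eq_one_iff _).mpr hmem)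
      rw [hz] at h1
      exact Nat.not_dvd_ordCompl hq (orderOf_pos g).ne' h1
    refine hgN (Subgroup.mem_iInf.mpr fun p => Subgroup.mem_iInf.mpr fun hp =>
      mem_pResidual_of_coprime ?_)
    obtain ⟨hpp, -, -⟩ := Nat.mem_primeFactors.mp hp
    refine (Nat.Coprime.coprime_dvd_left ?_ (Nat.Coprime.pow_left
      ((orderOf g).factorization q) ((Nat.coprime_primes hq hpp).mpr ?_)))
    · apply orderOf_dvd_of_pow_eq_one
      rw [← pow_mul, Nat.div_mul_cancel (Nat.ordProj_dvd _ q), pow_orderOf_eq_one]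
    · rintro rfl; exact hqn hp
  have hNcard : ∀ p ∈ (Nat.card H).primeFactors, ¬ p ∣ Nat.card N := by
    intro p hp hd
    have := Fact.mk (Nat.prime_of_mem_primeFactors hp)
    exact (hasNormalPComplement_iff_not_dvd.mp (hcomp p hp))
      (hd.trans (Subgroup.card_dvd_of_le (iInf₂_le p hp)))
  refine ⟨N, hNn, Subgroup.isComplement'_of_disjoint_and_mul_eq_univ
    (Subgroup.disjoint_def.mpr ?_) ?_⟩
  · intro x hxN hxH
    by_contra hne
    obtain ⟨p, hp, hpd⟩ := Nat.exists_prime_and_dvd (mt orderOf_eq_one_iff.mp hne)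
    exact hNcard p (Nat.mem_primeFactors.mpr ⟨hp, hpd.trans (Subgroup.orderOf_dvd_natCard H hxH),
      Nat.card_pos.ne'⟩) (hpd.trans (Subgroup.orderOf_dvd_natCard N hxN))
  · rw [← Subgroup.normal_mul, ← Subgroup.coe_top, SetLike.coe_set_eq, ← Subgroup.index_eq_one]
    by_contra hne
    obtain ⟨q, hq, hqd⟩ := Nat.exists_prime_and_dvd hne
    have h1 := hidx q hq (hqd.trans (Subgroup.index_dvd_of_le le_sup_left))
    exact hq.ne_one (Nat.eq_one_of_dvd_coprimes hHall (Nat.dvd_of_mem_primeFactors h1)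
      (hqd.trans (Subgroup.index_dvd_of_le le_sup_right)))

/-- A Hall subgroup which is central in its normaliser has a normal complement. -/
theorem exists_normal_complement_of_hall_central [Finite G] (H : Subgroup G)
    (hHall : Nat.Coprime (Nat.card H) H.index)
    (h : Subgroup.normalizer (H : Set G) ≤ Subgroup.centralizer (H : Set G)) :
    ∃ N : Subgroup G, N.Normal ∧ N.IsComplement' H := by
  have hcent : H ≤ Subgroup.centralizer (H : Set G) := Subgroup.le_normalizer.trans h
  have hcomm : IsMulCommutative H :=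
    ⟨⟨fun a b => Subtype.ext (Subgroup.mem_centralizer_iff.mp (hcent b.2) a a.2)⟩⟩
  have hnil : Group.IsNilpotent H := by
    open scoped IsMulCommutative in infer_instance
  refine exists_normal_complement_of_hall_control H hnil hHall fun x hx y hy hxy => ?_
  obtain ⟨g, hg⟩ := hxy
  refine ⟨1, one_mem _, ?_⟩
  set C : Subgroup G := Subgroup.centralizer {y}
  have hHC : H ≤ C := fun z hz => Subgroup.mem_centralizer_singleton_iff.mpr
    ((Subgroup.mem_centralizer_iff.mp (hcent hz) y hy).symm)
  set H' : Subgroup G := H.map (MulAut.conj g).toMonoidHom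
  have hH'C : H' ≤ C := by
    rintro _ ⟨z, hz, rfl⟩
    refine Subgroup.mem_centralizer_singleton_iff.mpr ?_
    have hzx : z * x = x * z := (Subgroup.mem_centralizer_iff.mp (hcent hz) x hx).symm
    show g * z * g⁻¹ * y = y * (g * z * g⁻¹)
    rw [← hg]
    calc g * z * g⁻¹ * (g * x * g⁻¹) = g * (z * x) * g⁻¹ := by group
      _ = g * (x * z) * g⁻¹ := by rw [hzx]
      _ = _ := by group
  have hH'nil : Group.IsNilpotent H' :=
    Group.nilpotent_of_mulEquiv (H.equivMapOfInjective _ (MulAut.conj g).injective)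
  have hcard : Nat.card (H'.subgroupOf C) = Nat.card (H.subgroupOf C) := by
    rw [Nat.card_congr (Subgroup.subgroupOfEquivOfLe hH'C).toEquiv,
      Nat.card_congr (Subgroup.subgroupOfEquivOfLe hHC).toEquiv]
    exact (Nat.card_congr (H.equivMapOfInjective _ (MulAut.conj g).injective).toEquiv).symm
  have hHall' : Nat.Coprime (Nat.card (H'.subgroupOf C)) (H'.subgroupOf C).index := by
    rw [Nat.card_congr (Subgroup.subgroupOfEquivOfLe hH'C).toEquiv,
      ← Nat.card_congr (H.equivMapOfInjective _ (MulAut.conj g).injective).toEquiv]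
    refine hHall.coprime_dvd_right ?_
    have hidx : H'.index = H.index :=
      Subgroup.index_map_of_bijective (MulAut.conj g).bijective H
    rw [← hidx]
    exact Subgroup.relIndex_dvd_index_of_le hH'C
  obtain ⟨c, hc⟩ := nilpotent_hall_conj (H'.subgroupOf C) (H.subgroupOf C)
    (Group.nilpotent_of_mulEquiv (Subgroup.subgroupOfEquivOfLe hH'C).symm)
    (Group.nilpotent_of_mulEquiv (Subgroup.subgroupOfEquivOfLe hHC).symm) hHall' hcard
  · have hn : (c : G) * g ∈ Subgroup.normalizer (H : Set G) := by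
      rw [Subgroup.mem_normalizer_iff_map_conj_eq]
      refine Subgroup.eq_of_le_of_card_ge ?_
        (le_of_eq (Nat.card_congr (H.equivMapOfInjective _ (MulAut.conj _).injective).toEquiv))
      rintro _ ⟨z, hz, rfl⟩
      have hmem : (⟨g * z * g⁻¹, hH'C ⟨z, hz, rfl⟩⟩ : C) ∈ H'.subgroupOf C := ⟨z, hz, rfl⟩
      have := hc.le (show c * (⟨g * z * g⁻¹, hH'C ⟨z, hz, rfl⟩⟩ : C) * c⁻¹ ∈
          (H'.subgroupOf C).map (MulAut.conj c).toMonoidHom from ⟨_, hmem, rfl⟩)
      simpa [mul_assoc] using Subgroup.mem_subgroupOf.mp this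
    have hxfix := Subgroup.mem_centralizer_iff.mp (h hn) x hx
    have hyc : (c : G) * y = y * c := (Subgroup.mem_centralizer_singleton_iff.mp c.2)
    have h3 : (c : G) * g * x * ((c : G) * g)⁻¹ = x := by rw [← hxfix]; group
    rw [one_mul, inv_one, mul_one, ← h3]
    calc (c : G) * g * x * ((c : G) * g)⁻¹ = (c : G) * y * (c : G)⁻¹ := by rw [← hg]; group
      _ = y := by rw [hyc, mul_inv_cancel_right]

/-- Complements of an abelian normal Hall subgroup are conjugate under it. -/
theorem complement_conj_of_abelian_hall [Finite G] {A : Subgroup G} [A.Normal]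
    (hA : IsMulCommutative A) (hHall : Nat.Coprime (Nat.card A) A.index) {K L : Subgroup G}
    (hK : A.IsComplement' K) (hL : A.IsComplement' L) :
    ∃ a ∈ A, L.map (MulAut.conj a).toMonoidHom = K := by
  have key : ∀ M : Subgroup G, ∀ hM : A.IsComplement' M,
      ∃ α : A.QuotientDiff, MulAction.stabilizer G α = M := by
    intro M hM
    let T : A.LeftTransversal := ⟨(M : Set G), hM.symm⟩
    let α : A.QuotientDiff := Quotient.mk'' T
    refine ⟨α, ?_⟩
    have hle : M ≤ MulAction.stabilizer G α := by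
      intro m hm
      rw [MulAction.mem_stabilizer_iff]
      show Quotient.mk'' (MulOpposite.op m⁻¹ • T) = Quotient.mk'' T
      refine congrArg Quotient.mk'' (Subtype.ext ?_)
      show MulOpposite.op m⁻¹ • (M : Set G) = (M : Set G)
      exact rightCoset_mem_rightCoset M (M.inv_mem hm)
    refine (Subgroup.eq_of_le_of_card_ge hle (le_of_eq ?_)).symm
    have h1 := hM.symm.index_eq_card
    have h2 := (Subgroup.isComplement'_stabilizer_of_coprime
      (α := α) hHall).symm.index_eq_card
    exact h2.symm.trans h1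
  obtain ⟨α, hα⟩ := key K hK
  obtain ⟨β, hβ⟩ := key L hL
  obtain ⟨a, ha⟩ := Subgroup.exists_smul_eq hHall β α
  refine ⟨a, a.2, ?_⟩
  rw [← hα, ← hβ, ← ha]
  exact (MulAction.stabilizer_smul_eq_stabilizer_map_conj (a : G) β).symm

end Cfsg.Agent.Transfer
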