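import Cfsg.Agent.Lib.Transfer.PClasses
import Cfsg.Agent.FG78.PiClasses
import Cfsg.Agent.FG78.PiBound
import Cfsg.Agent.Lib.Transfer.Focal

/-!
# `d_π(G) ≤ d_r(G)`, and abelian `π`-complement situations
-/

namespace Cfsg.Agent.Transfer

open Cfsg
open scoped Pointwise commutatorElement

universe u

variable {G : Type u} [Group G] [Finite G]

/-- `k_{s ∪ p}(G) ≤ k_p(G) · |G|_s`. -/
theorem card_piClasses_insert_le {p : ℕ} [Fact p.Prime] (s : Finset ℕ) (hp : p ∉ s)
    (hs : ∀ q ∈ s, q.Prime) :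
    Nat.card (FG78.PiClasses (↑(insert p s) : Set ℕ) G) ≤
      Nat.card {c : ConjClasses G // ∀ x ∈ c.carrier, ∃ k : ℕ, orderOf x = p ^ k} *
        ∏ q ∈ s, q ^ (Nat.card G).factorization q := by
  classical
  let D := {c : ConjClasses G // ∀ x ∈ c.carrier, ∃ k : ℕ, orderOf x = p ^ k}
  have hDfin : Finite (ConjClasses G) := Finite.of_surjective _ ConjClasses.mk_surjective
  letI : Fintype D := Fintype.ofFinite D
  let H : D → Subgroup G := fun d => Subgroup.centralizer ({d.1.exists_rep.choose} : Set G)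
  let F : (Σ d : D, FG78.PiClasses (↑s : Set ℕ) (H d)) → ConjClasses G :=
    fun d => ConjClasses.mk ((d.1.1.exists_rep.choose : G) * (d.2.1.exists_rep.choose : G))
  have key : ∀ C : FG78.PiClasses (↑(insert p s) : Set ℕ) G, ∃ d, F d = C.1 := by
    rintro ⟨C, hC⟩
    obtain ⟨x, rfl⟩ := C.exists_rep
    have hx := (FG78.isPiElem_conjClass_iff _ x).mp hC
    set a := FG78.piPart {p} x
    set b := FG78.piPart' {p} x
    obtain ⟨k, hk⟩ : ∃ k, orderOf a = p ^ k :=
      ⟨_, Nat.eq_prime_pow_of_unique_prime_dvd (orderOf_pos _).ne'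
        fun {q} hq hd => (FG78.isPiElem_piPart {p} x) q hq hd⟩
    let d : D := ⟨ConjClasses.mk a, fun y hy => by
      rw [ConjClasses.mem_carrier_iff_mk_eq, ConjClasses.mk_eq_mk_iff_isConj, isConj_comm,
        isConj_iff] at hy
      obtain ⟨g, rfl⟩ := hy
      exact ⟨k, (MulEquiv.orderOf_eq (MulAut.conj g) a).trans hk⟩⟩
    obtain ⟨c, hc⟩ := isConj_iff.mp
      (ConjClasses.mk_eq_mk_iff_isConj.mp d.1.exists_rep.choose_spec.symm)
    have hab : Commute a b := FG78.commute_piPart_piPart' {p} x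
    have hmem : c * b * c⁻¹ ∈ H d := by
      rw [Subgroup.mem_centralizer_singleton_iff, ← hc]
      calc c * b * c⁻¹ * (c * a * c⁻¹) = c * (b * a) * c⁻¹ := by group
        _ = c * (a * b) * c⁻¹ := by rw [hab.eq]
        _ = _ := by group
    have hbs : FG78.IsPiElem (↑s : Set ℕ) (⟨_, hmem⟩ : H d) := by
      intro q hq hd
      rw [Subgroup.orderOf_mk] at hd
      have hd' : q ∣ orderOf b := by
        rwa [show orderOf (c * b * c⁻¹) = orderOf b from MulEquiv.orderOf_eq (MulAut.conj c) b] at hd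
      have hne : q ≠ p := fun e => FG78.isPiElem_piPart' {p} x q hq hd' (by simp [e])
      obtain ⟨j, hj⟩ := FG78.exists_piPart'_eq_pow {p} x
      have := hx q hq (hd'.trans (by rw [show b = x ^ j from hj]; exact orderOf_pow_dvd j))
      simpa [hne] using this
    let E : FG78.PiClasses (↑s : Set ℕ) (H d) :=
      ⟨ConjClasses.mk ⟨_, hmem⟩, (FG78.isPiElem_conjClass_iff _ _).mpr hbs⟩
    refine ⟨⟨d, E⟩, ?_⟩
    obtain ⟨e, he⟩ := isConj_iff.mp
      (ConjClasses.mk_eq_mk_iff_isConj.mp E.1.exists_rep.choose_spec.symm)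
    have he' : (e : G) * (c * b * c⁻¹) * (e : G)⁻¹ = (E.1.exists_rep.choose : G) :=
      congrArg Subtype.val he
    have hec : (e : G) * d.1.exists_rep.choose = d.1.exists_rep.choose * e :=
      Subgroup.mem_centralizer_singleton_iff.mp e.2
    refine ConjClasses.mk_eq_mk_iff_isConj.mpr (IsConj.symm (isConj_iff.mpr ⟨(e : G) * c, ?_⟩))
    show (e : G) * c * x * ((e : G) * c)⁻¹ =
      d.1.exists_rep.choose * (E.1.exists_rep.choose : G)
    calc (e : G) * c * x * ((e : G) * c)⁻¹
        = (e : G) * c * (a * b) * ((e : G) * c)⁻¹ := by rw [FG78.piPart_mul_piPart']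
      _ = (e : G) * (c * a * c⁻¹) * ((c * b * c⁻¹) * (e : G)⁻¹) := by group
      _ = _ := by rw [hc, hec, ← he']; group
  have hinj : Function.Injective fun C => (key C).choose := fun C C' h =>
    Subtype.ext ((key C).choose_spec.symm.trans (by
      rw [show (key C).choose = (key C').choose from h]; exact (key C').choose_spec))
  refine (Nat.card_le_card_of_injective _ hinj).trans ?_
  rw [Nat.card_sigma]
  refine (Finset.sum_le_card_nsmul _ _ (∏ q ∈ s, q ^ (Nat.card G).factorization q) fun d _ =>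
    (FG78.card_piClasses_finset_le s hs (H d)).trans ?_).trans ?_
  · refine Finset.prod_le_prod' fun q hq => Nat.pow_le_pow_right (hs q hq).pos ?_
    exact (Nat.factorization_le_iff_dvd Nat.card_pos.ne' Nat.card_pos.ne').mpr
      (Subgroup.card_subgroup_dvd_card _) q
  · rw [smul_eq_mul, Finset.card_univ, ← Nat.card_eq_fintype_card]

/-- The classes of `s`-elements, in the form used by the statements. -/
theorem card_piClasses_eq (s : Finset ℕ) :
    Nat.card {c : ConjClasses G // ∀ x ∈ c.carrier, ∀ r : ℕ, r.Prime → r ∣ orderOf x → r ∈ s} =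
      Nat.card (FG78.PiClasses (↑s : Set ℕ) G) := by
  refine Nat.card_congr (Equiv.subtypeEquivRight fun C => ?_)
  constructor
  · rintro h q hq ⟨g, rfl, hd⟩
    exact h g ConjClasses.mem_carrier_mk q hq hd
  · intro h x hx r hr hd
    exact h r hr ⟨x, ConjClasses.mem_carrier_iff_mk_eq.mp hx, hd⟩

/-- `d_s(G) ≤ d_r(G)` for `r ∈ s`: if `a · |G|_s < b · k_s(G)` then `a · |R| < b · k_r(G)`. -/
theorem mul_card_sylow_lt_of_mem {s : Finset ℕ} (hs : ∀ q ∈ s, q.Prime) {r : ℕ} (hr : r ∈ s)
    [Fact r.Prime] (R : Sylow r G) {a b : ℕ}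
    (h : a * ∏ q ∈ s, q ^ (Nat.card G).factorization q <
      b * Nat.card (FG78.PiClasses (↑s : Set ℕ) G)) :
    a * Nat.card R <
      b * Nat.card {c : ConjClasses G // ∀ x ∈ c.carrier, ∃ k : ℕ, orderOf x = r ^ k} := by
  classical
  have h1 := card_piClasses_insert_le (G := G) (p := r) (s.erase r) (Finset.notMem_erase r s)
    fun q hq => hs q (Finset.mem_of_mem_erase hq)
  rw [Finset.insert_erase hr] at h1
  rw [← Finset.mul_prod_erase s _ hr, ← R.card_eq_multiplicity] at h
  by_contra hle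
  rw [not_lt] at hle
  have := Nat.mul_le_mul_left b h1
  have := Nat.mul_le_mul_right (∏ q ∈ s.erase r, q ^ (Nat.card G).factorization q) hle
  nlinarith

/-- If `G` is `r`-nilpotent with abelian Sylow `r`-subgroups for all `r ∈ s`, then it has a
characteristic normal `s`-complement with an abelian complement. -/
theorem exists_abelian_pi_complement (s : Finset ℕ) (hs : ∀ q ∈ s, q.Prime)
    (h : ∀ (r : ℕ) [Fact r.Prime], r ∈ s →
      HasNormalPComplement r G ∧ ∀ R : Sylow r G, IsMulCommutative R) :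
    ∃ N : Subgroup G, N.Characteristic ∧ (∀ r : ℕ, r.Prime → r ∣ Nat.card N → r ∉ s) ∧
      (∀ r : ℕ, r.Prime → r ∣ N.index → r ∈ s) ∧
      ∃ H : Subgroup G, N.IsComplement' H ∧ IsMulCommutative H := by
  set N : Subgroup G := ⨅ r ∈ s, pResidual r G
  have hchar : N.Characteristic := Subgroup.characteristic_iff_le_comap.mpr fun φ x hx => by
    rw [Subgroup.mem_comap]
    simp only [N, Subgroup.mem_iInf] at hx ⊢
    exact fun r hr => map_pResidual_le φ.toMonoidHom ⟨x, hx r hr, rfl⟩
  have hN : N.Normal := Subgroup.normal_of_characteristic N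
  have hcard : ∀ r : ℕ, r.Prime → r ∣ Nat.card N → r ∉ s := by
    intro r hr hd hrs
    have := Fact.mk hr
    exact hasNormalPComplement_iff_not_dvd.mp (h r hrs).1
      (hd.trans (Subgroup.card_dvd_of_le (iInf₂_le r hrs)))
  have hidx : ∀ q : ℕ, q.Prime → q ∣ N.index → q ∈ s := by
    intro q hq hqN
    by_contra hqn
    have := Fact.mk hq
    rw [Subgroup.index_eq_card] at hqN
    obtain ⟨z, hz⟩ := exists_prime_orderOf_dvd_card' q hqN
    obtain ⟨g, rfl⟩ := QuotientGroup.mk'_surjective N z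
    have hgN : g ^ (orderOf g / q ^ (orderOf g).factorization q) ∈ N → False := by
      intro hmem
      have h1 : orderOf (QuotientGroup.mk' N g) ∣ orderOf g / q ^ (orderOf g).factorization q :=
        orderOf_dvd_of_pow_eq_one (by rw [← map_pow]; exact (QuotientGroup.eq_one_iff _).mpr hmem)
      rw [hz] at h1
      exact Nat.not_dvd_ordCompl hq (orderOf_pos g).ne' h1
    refine hgN (Subgroup.mem_iInf.mpr fun p => Subgroup.mem_iInf.mpr fun hp =>
      mem_pResidual_of_coprime ?_)
    refine Nat.Coprime.coprime_dvd_left ?_ (Nat.Coprime.pow_left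
      ((orderOf g).factorization q) ((Nat.coprime_primes hq (hs p hp)).mpr ?_))
    · apply orderOf_dvd_of_pow_eq_one
      rw [← pow_mul, Nat.div_mul_cancel (Nat.ordProj_dvd _ q), pow_orderOf_eq_one]
    · rintro rfl; exact hqn hp
  have hcop : Nat.Coprime (Nat.card N) N.index :=
    Nat.coprime_of_dvd fun q hq h1 h2 => hcard q hq h1 (hidx q hq h2)
  obtain ⟨H, hH⟩ := Subgroup.exists_right_complement'_of_coprime hcop
  refine ⟨N, hchar, hcard, hidx, H, hH, ⟨⟨fun a b => ?_⟩⟩⟩
  have hc : ((b * a)⁻¹ * (a * b) : H) = 1 := by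
    refine Subtype.ext (Subgroup.disjoint_def.mp hH.disjoint ?_ (SetLike.coe_mem _))
    refine Subgroup.mem_iInf.mpr fun r => Subgroup.mem_iInf.mpr fun hr => ?_
    have := Fact.mk (hs r hr)
    refine commutator_le_pResidual_of_abelian default ((h r hr).2 default) ?_
    have : (((b * a)⁻¹ * (a * b) : H) : G) = ⁅(a : G)⁻¹, (b : G)⁻¹⁆ := by
      simp only [Subgroup.coe_mul, Subgroup.coe_inv, commutatorElement_def]
      group
    rw [this, commutator_def]
    exact Subgroup.commutator_mem_commutator (Subgroup.mem_top _) (Subgroup.mem_top _)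
  exact (inv_mul_eq_one.mp hc).symm

end Cfsg.Agent.Transfer
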